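import Groth.Agent.Fga.CounitRestrict
import Groth.Prelude.Def_ClSub2
import Groth.Prelude.Def_Pic

/-!
# Units and counits of `(f^*, f_*)` when `O_Y ⟶ f_* O_X` is an isomorphism
-/

set_option autoImplicit false
universe u

open CategoryTheory CategoryTheory.Limits AlgebraicGeometry

namespace K931.UnitInv

open Scheme.Modules Groth.Agent.Fga.UnitRestrict Groth.Agent.Fga.CounitRestrict

variable {X Y : Scheme.{u}} (f : X ⟶ Y)

theorem bijective_app_of_isIso (h : IsIso (ClSub.unitToPush f)) (U : Y.Opens) :
    Function.Bijective (f.app U) := by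
  rw [Hom.isIso_iff_isIso_app] at h
  have := h U
  rw [ConcreteCategory.isIso_iff_bijective] at this
  exact this

theorem isIso_unitToPush_of_bijective (h : ∀ U : Y.Opens, Function.Bijective (f.app U)) :
    IsIso (ClSub.unitToPush f) := by
  rw [Hom.isIso_iff_isIso_app]
  intro U
  rw [ConcreteCategory.isIso_iff_bijective]
  exact h U

/-- If `O_Y ≅ f_* O_X` then `L ⟶ f_* f^* L` is an isomorphism for `L` invertible. -/
theorem isIso_unit_of_isInvertible (hf : ∀ U : Y.Opens, Function.Bijective (f.app U)) (L : Y.Modules)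
    (hL : PicF.IsInvertible L) : IsIso ((pullbackPushforwardAdjunction f).unit.app L) := by
  refine isIso_of_locally _ fun y => ?_
  obtain ⟨U, hU, ⟨e⟩⟩ := hL y
  refine ⟨U, hU, isIso_restrict_unit f U L ?_⟩
  have e' : (restrictFunctor U.ι).obj L ≅ Coh.structureModule _ := e
  rw [NatTrans.isIso_app_iff_of_iso _ e']
  exact isIso_unit_structureModule _ (bijective_morphismRestrict_app f hf U)

end K931.UnitInv
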