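import Groth.Agent.PosLin.K931.Eff
import Groth.Agent.PosLin.K931.UnitInv
import Groth.Agent.Ega2.H18.PnExist
import Groth.Agent.Ega2.WeightPull
import Groth.Agent.Ega1.GlobGenPt

/-!
# Descending invertible modules along a morphism with `O_Y ≅ f_* O_X`

* `exists_fin_cover`, `exists_map`: a globally generated invertible module on a compact scheme comes from a
  morphism to a projective space.
* `exists_descent`: a globally generated invertible module a positive power of which descends, descends.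
* `pull_injective`.
-/

set_option autoImplicit false
universe u

open CategoryTheory CategoryTheory.Limits AlgebraicGeometry Opposite TopologicalSpace

namespace K931.Descend

open Groth.Agent Groth.Agent.Fdesc.LocGen Groth.Agent.Grpsch.PicGrp

variable {X Y : Scheme.{u}}

theorem exists_fin_cover [CompactSpace X] {M : X.Modules} (hM : PicF.IsInvertible M)
    (hg : Curv2.IsGloballyGenerated M) :
    ∃ (n : ℕ) (s : Fin (n + 1) → (Coh.structureModule X ⟶ M)), ⨆ i, CohB1.genLocus M (s i) = ⊤ := by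
  choose s hs using fun x => Ega1.GlobGenPt.exists_mem_genLocus hM hg x
  obtain ⟨t, ht⟩ := isCompact_univ.elim_finite_subcover (fun x : X => (CohB1.genLocus M (s x) : Set X))
    (fun x => (CohB1.genLocus M (s x)).isOpen) (fun x _ => Set.mem_iUnion.mpr ⟨x, hs x⟩)
  let e := t.equivFin
  refine ⟨t.card, fun i => if h : i.1 < t.card then s (e.symm ⟨i.1, h⟩).1 else 0, ?_⟩
  rw [eq_top_iff]
  intro x _
  obtain ⟨y, hy⟩ := Set.mem_iUnion.mp (ht (Set.mem_univ x))
  obtain ⟨hyt, hxy⟩ := Set.mem_iUnion.mp hy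
  rw [Opens.mem_iSup]
  refine ⟨⟨(e ⟨y, hyt⟩).1, (e ⟨y, hyt⟩).2.trans (Nat.lt_succ_self _)⟩, ?_⟩
  have h1 : ((e ⟨y, hyt⟩).1 : ℕ) < t.card := (e ⟨y, hyt⟩).2
  have h2 : e.symm ⟨(e ⟨y, hyt⟩).1, h1⟩ = ⟨y, hyt⟩ := e.symm_apply_apply _
  show x ∈ CohB1.genLocus M (if h : ((e ⟨y, hyt⟩).1 : ℕ) < t.card then
    s (e.symm ⟨((e ⟨y, hyt⟩).1 : ℕ), h⟩).1 else 0)
  rw [dif_pos h1, h2]
  exact hxy

theorem exists_map [CompactSpace X] {R : Type u} [CommRing R] (q : X ⟶ Spec (CommRingCat.of R))
    {M : X.Modules} (hM : PicF.IsInvertible M) (hg : Curv2.IsGloballyGenerated M) :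
    ∃ (n : ℕ) (r : X ⟶ CohB1.ProjSpace n R), r ≫ CohB1.ProjSpace.toSpec n R = q ∧
      Nonempty ((Scheme.Modules.pullback r).obj (Twist.twistProjSpace n R 1) ≅ M) := by
  obtain ⟨n, s, hs⟩ := exists_fin_cover hM hg
  obtain ⟨r, hr, τ, -⟩ := Ega2.H18.PnExist.exists_map n q M (fun i => sec (s i) ⊤) (by simpa using hs)
  exact ⟨n, r, hr, ⟨τ⟩⟩

theorem nonempty_restrict_iso {L : X.Modules} {U : X.Opens} {e : Γ(L, U)} (he : IsGen e) :
    Nonempty (L.restrict U.ι ≅ Coh.structureModule U.toScheme) := by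
  have hU : U.ι ''ᵁ ⊤ ≤ U := by simp
  have h1 : IsGen (toRestrict (M := L) U.ι (U := ⊤) (res L hU e)) :=
    (isGen_toRestrict_iff _ _).mpr (he.res hU)
  have : IsIso (homOf (toRestrict (M := L) U.ι (U := ⊤) (res L hU e))) := by
    rw [isIso_iff_isGen, sec_homOf]
    simpa using h1
  exact ⟨(asIso (homOf (toRestrict (M := L) U.ι (U := ⊤) (res L hU e)))).symm⟩

section Descent

variable (f : X ⟶ Y) (hf : ∀ U : Y.Opens, Function.Bijective (f.app U))

include hf in
theorem pull_injective : Function.Injective (pull f) := by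
  intro a b hab
  induction a using ind with | _ L hL => ?_
  induction b using ind with | _ M hM => ?_
  rw [pull_mk, pull_mk, mk_eq_iff] at hab
  obtain ⟨e⟩ := hab
  rw [mk_eq_iff]
  have h1 := UnitInv.isIso_unit_of_isInvertible f hf L hL
  have h2 := UnitInv.isIso_unit_of_isInvertible f hf M hM
  exact ⟨(asIso ((Scheme.Modules.pullbackPushforwardAdjunction f).unit.app L)) ≪≫
    (Scheme.Modules.pushforward f).mapIso e ≪≫
    (asIso ((Scheme.Modules.pullbackPushforwardAdjunction f).unit.app M)).symm⟩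

include hf in
theorem isGen_push {M : X.Modules} {V : Y.Opens} (e : Γ(M, f ⁻¹ᵁ V)) (he : IsGen e) :
    IsGen (M := (Scheme.Modules.pushforward f).obj M) (U := V) e := by
  intro W hW
  have h1 := he (f ⁻¹ᵁ W) (f.preimage_mono hW)
  have h2 := h1.comp (hf W)
  exact h2

/-- A globally generated invertible module a positive power of which descends, descends. -/
theorem exists_descent [Surjective f] (hf : ∀ U : Y.Opens, Function.Bijective (f.app U))
    {M : X.Modules} (hM : PicF.IsInvertible M) (hg : Curv2.IsGloballyGenerated M) {n : ℕ} (hn : 0 < n)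
    {B : Y.Modules} (hB : PicF.IsInvertible B)
    (e : (Scheme.Modules.pullback f).obj B ≅ CohB1.tensorPow M n) :
    ∃ A : Y.Modules, PicF.IsInvertible A ∧ Nonempty ((Scheme.Modules.pullback f).obj A ≅ M) := by
  have key : ∀ y : Y, ∃ (V : Y.Opens) (s : Coh.structureModule X ⟶ M), y ∈ V ∧ IsGen (sec s (f ⁻¹ᵁ V)) := by
    intro y
    obtain ⟨x, rfl⟩ := f.surjective y
    obtain ⟨s, hs⟩ := Ega1.GlobGenPt.exists_mem_genLocus hM hg x
    have h1 := UnitInv.isIso_unit_of_isInvertible f hf B hB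
    have h2 : Function.Surjective
        (((Scheme.Modules.pullbackPushforwardAdjunction f).unit.app B).app ⊤) := by
      rw [Scheme.Modules.Hom.isIso_iff_isIso_app] at h1
      have := h1 ⊤
      rw [ConcreteCategory.isIso_iff_bijective] at this
      exact this.2
    obtain ⟨t, ht⟩ := h2 (sec (Ega2.Weight.powHom s n ≫ e.inv) ⊤)
    have h3 : Ega2.Weight.pullHom f (homOf t) = Ega2.Weight.powHom s n ≫ e.inv := by
      refine hom_ext_sec ?_
      rw [← ht]
      refine (sec_homOf _ _).trans ?_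
      rw [res_refl, sec_homOf, res_refl]
      rfl
    have h4 : CohB1.genLocus M s = f ⁻¹ᵁ CohB1.genLocus B (homOf t) := by
      rw [← Ega2.Weight.genLocus_pullHom f hB, h3, Ega2.Weight.genLocus_comp,
        Ega2.Weight.genLocus_powHom hM s hn]
    refine ⟨CohB1.genLocus B (homOf t), s, ?_, ?_⟩
    · have : x ∈ f ⁻¹ᵁ CohB1.genLocus B (homOf t) := h4 ▸ hs
      exact this
    · rw [← h4]
      exact isGen_sec_genLocus s
  refine ⟨(Scheme.Modules.pushforward f).obj M, ?_, ?_⟩
  · rw [isInvertible_iff]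
    intro y
    obtain ⟨V, s, hy, hs⟩ := key y
    exact ⟨V, sec s (f ⁻¹ᵁ V), hy, isGen_push f hf _ hs⟩
  · have := Fga.CounitRestrict.isIso_counit_of_locally_trivial f hf M (fun y => by
      obtain ⟨V, s, hy, hs⟩ := key y
      exact ⟨V, hy, nonempty_restrict_iso hs⟩)
    exact ⟨asIso ((Scheme.Modules.pullbackPushforwardAdjunction f).counit.app M)⟩

end Descent

end K931.Descend
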