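import Groth.Agent.VarietyA.H0Equiv
import Groth.Agent.Fdesc.LocGen
import Mathlib.AlgebraicGeometry.Morphisms.Proper
import Mathlib.AlgebraicGeometry.Morphisms.FiniteType
import Mathlib.AlgebraicGeometry.Over
import Mathlib.AlgebraicGeometry.Noetherian
import Mathlib.AlgebraicGeometry.Morphisms.FinitePresentation

/-!
# Basic facts on proper schemes over a field
-/

set_option autoImplicit false
universe u

open CategoryTheory CategoryTheory.Limits AlgebraicGeometry Opposite TopologicalSpace

namespace K931.Basic

open Groth.Agent Groth.Agent.Fdesc.LocGen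

variable (k : Type u) [Field k] (X : Scheme.{u}) [X.Over (Spec (CommRingCat.of k))]
  [IsProper (X ↘ Spec (CommRingCat.of k))]

include k

theorem isLocallyNoetherian : IsLocallyNoetherian X :=
  LocallyOfFiniteType.isLocallyNoetherian (X ↘ Spec (CommRingCat.of k))

theorem compactSpace : CompactSpace X :=
  QuasiCompact.compactSpace_of_compactSpace (X ↘ Spec (CommRingCat.of k))

theorem isNoetherian : IsNoetherian X :=
  { toIsLocallyNoetherian := isLocallyNoetherian k X, toCompactSpace := compactSpace k X }

theorem isSeparated : X.IsSeparated := by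
  rw [Scheme.isSeparated_iff, ← terminal.comp_from (X ↘ Spec (CommRingCat.of k)), IsSeparated.comp_iff]
  infer_instance

omit k [IsProper (X ↘ Spec (CommRingCat.of k))] [X.Over (Spec (CommRingCat.of k))] [Field k] in
variable {X} in
/-- `H⁰` is nontrivial iff there is a nonzero section. -/
theorem nontrivial_H0_iff (L : X.Modules) :
    Nontrivial (Coh.HH X L 0) ↔ ∃ s : Coh.structureModule X ⟶ L, s ≠ 0 := by
  rw [(VarietyA.H0Equiv.hZeroEquiv L).toEquiv.nontrivial_congr]
  constructor
  · intro h
    obtain ⟨t, ht⟩ := @exists_ne (L.val.obj (op (⊤ : Opens X))) h 0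
    refine ⟨homOf (t : Γ(L, ⊤)), fun h0 => ht ?_⟩
    have h2 := congrArg (fun s => sec s ⊤) h0
    beta_reduce at h2
    rw [sec_homOf, res_refl] at h2
    exact h2
  · rintro ⟨s, hs⟩
    refine ⟨⟨sec s ⊤, 0, fun h0 => hs (hom_ext_sec ?_)⟩⟩
    exact h0

end K931.Basic
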