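import Groth.Agent.S2327
import Groth.Agent.S2328
import Groth.Agent.S2329
import Groth.Agent.Grpsch.PicGrp
import Groth.Agent.CurvesB.InvEmb
import Groth.Agent.CohqB.SerTw
import Groth.Agent.VarietyA.TwistExist

/-!
# Effective, ample and big classes in the Picard group of an integral scheme

`Eff c`: the class `c` has a nonzero section; `Amp c`: `c` is the class of an ample module;
`Big c`: for every ample `a` some `c ^ m / a`, `m > 0`, is effective.
-/

set_option autoImplicit false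
universe u

open CategoryTheory CategoryTheory.Limits AlgebraicGeometry Opposite TopologicalSpace

namespace K931.Eff

open Groth.Agent Groth.Agent.Fdesc.LocGen Groth.Agent.Grpsch.PicGrp

variable {X : Scheme.{u}}

/-- A representative. -/
noncomputable def rep (c : Pic X) : X.Modules := (exists_mk c).choose

theorem rep_inv (c : Pic X) : PicF.IsInvertible (rep c) := (exists_mk c).choose_spec.choose

theorem mk_rep (c : Pic X) : mk (rep c) (rep_inv c) = c := (exists_mk c).choose_spec.choose_spec.symm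

/-- The class has a nonzero section. -/
def Eff (c : Pic X) : Prop := ∃ (L : X.Modules) (hL : PicF.IsInvertible L), c = mk L hL ∧
  ∃ s : Coh.structureModule X ⟶ L, s ≠ 0

/-- The class of an ample module. -/
def Amp (c : Pic X) : Prop := ∃ (L : X.Modules) (hL : PicF.IsInvertible L), c = mk L hL ∧ CohB1.IsAmple L

theorem eff_mk {L : X.Modules} (hL : PicF.IsInvertible L) :
    Eff (mk L hL) ↔ ∃ s : Coh.structureModule X ⟶ L, s ≠ 0 := by
  constructor
  · rintro ⟨M, hM, h, s, hs⟩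
    obtain ⟨e⟩ := (mk_eq_iff hL hM).mp h
    refine ⟨s ≫ e.inv, fun h0 => hs ?_⟩
    rw [← cancel_mono e.inv, h0, zero_comp]
  · rintro ⟨s, hs⟩
    exact ⟨L, hL, rfl, s, hs⟩

theorem amp_mk {L : X.Modules} (hL : PicF.IsInvertible L) : Amp (mk L hL) ↔ CohB1.IsAmple L := by
  constructor
  · rintro ⟨M, hM, h, hA⟩
    obtain ⟨e⟩ := (mk_eq_iff hL hM).mp h
    exact S2329.isAmple_of_iso e.symm hA
  · exact fun h => ⟨L, hL, rfl, h⟩

theorem amp_rep {c : Pic X} (h : Amp c) : CohB1.IsAmple (rep c) := by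
  rw [← amp_mk (rep_inv c), mk_rep]; exact h

section Ample

variable [CompactSpace X] [X.IsSeparated]

theorem Amp.pow {c : Pic X} (h : Amp c) {n : ℕ} (hn : 0 < n) : Amp (c ^ n) := by
  induction c using ind with | _ L hL => ?_
  rw [← mk_tensorPow, amp_mk]
  exact (S2327.result X L hL n hn).mp ((amp_mk hL).mp h)

theorem amp_of_pow {c : Pic X} {n : ℕ} (hn : 0 < n) (h : Amp (c ^ n)) : Amp c := by
  induction c using ind with | _ L hL => ?_
  rw [← mk_tensorPow, amp_mk] at h
  rw [amp_mk]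
  exact (S2327.result X L hL n hn).mpr h

theorem Amp.mul {c d : Pic X} (h : Amp c) (h' : Amp d) : Amp (c * d) := by
  induction c using ind with | _ L hL => ?_
  induction d using ind with | _ M hM => ?_
  rw [mk_mul_mk, amp_mk]
  exact S2328.result X L M ((amp_mk hL).mp h) hM fun x =>
    let ⟨n, s, hs, _⟩ := ((amp_mk hM).mp h').2.2 x
    ⟨n, s, hs⟩

/-- `c ^ n * d` is ample and globally generated for `n` large. -/
theorem Amp.eventually {c : Pic X} (h : Amp c) (d : Pic X) : ∃ n₀ : ℕ, 0 < n₀ ∧ ∀ n, n₀ ≤ n → Amp (c ^ n * d) := by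
  induction c using ind with | _ L hL => ?_
  induction d using ind with | _ M hM => ?_
  obtain ⟨n₀, h0, hn⟩ := S2329.result X L M ((amp_mk hL).mp h) hM
  refine ⟨n₀, h0, fun n hle => ?_⟩
  rw [← mk_tensorPow, mk_mul_mk, amp_mk]
  exact (hn n hle).1

omit [CompactSpace X] [X.IsSeparated] in
theorem ne_zero_of_mem_genLocus [Nonempty X] {L : X.Modules} (s : Coh.structureModule X ⟶ L) {x : X}
    (hx : x ∈ CohB1.genLocus L s) : s ≠ 0 := by
  rintro rfl
  obtain ⟨V, hxV, hg⟩ := (mem_genLocus_iff (0 : Coh.structureModule X ⟶ L) x).mp hx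
  have h0 : sec (0 : Coh.structureModule X ⟶ L) V = 0 := rfl
  rw [h0] at hg
  have h1 : (1 : Γ(X, V)) = 0 := hg.ext (by rw [smul_zero, smul_zero])
  have h2 : (1 : X.presheaf.stalk x) = 0 := by
    rw [← map_one (X.presheaf.germ V x hxV).hom, ← map_zero (X.presheaf.germ V x hxV).hom, h1]
  exact one_ne_zero h2

theorem Amp.eventually_eff [Nonempty X] {c : Pic X} (h : Amp c) (d : Pic X) :
    ∃ n₀ : ℕ, 0 < n₀ ∧ ∀ n, n₀ ≤ n → Eff (c ^ n * d) := by
  induction c using ind with | _ L hL => ?_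
  induction d using ind with | _ M hM => ?_
  obtain ⟨n₀, h0, hn⟩ := S2329.result X L M ((amp_mk hL).mp h) hM
  refine ⟨n₀, h0, fun n hle => ?_⟩
  rw [← mk_tensorPow, mk_mul_mk, eff_mk]
  obtain ⟨s, hs⟩ := Ega1.GlobGenPt.exists_mem_genLocus
    (isInvertible_tensorMod (isInvertible_tensorPow hL n) hM) (hn n hle).2 (Classical.arbitrary X)
  exact ⟨s, ne_zero_of_mem_genLocus s hs⟩

end Ample

section Eff

theorem id_ne_zero [Nonempty X] : 𝟙 (Coh.structureModule X) ≠ 0 := by
  intro h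
  have x : X := Classical.arbitrary X
  have hx : x ∈ CohB1.genLocus (Coh.structureModule X) (𝟙 _) := by
    refine Opens.mem_sSup.mpr ⟨⊤, ?_, trivial⟩
    change IsIso _
    infer_instance
  rw [h] at hx
  obtain ⟨V, hxV, hg⟩ := (mem_genLocus_iff (0 : Coh.structureModule X ⟶ _) x).mp hx
  have h0 : sec (0 : Coh.structureModule X ⟶ Coh.structureModule X) V = 0 := rfl
  rw [h0] at hg
  have h1 : (1 : Γ(X, V)) = 0 := hg.ext (by rw [smul_zero, smul_zero])
  have h2 : (1 : X.presheaf.stalk x) = 0 := by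
    rw [← map_one (X.presheaf.germ V x hxV).hom, ← map_zero (X.presheaf.germ V x hxV).hom, h1]
  exact one_ne_zero h2

theorem eff_one [Nonempty X] : Eff (1 : Pic X) := by
  rw [one_def, eff_mk]
  exact ⟨𝟙 _, id_ne_zero⟩

variable [AlgebraicGeometry.IsIntegral X]

theorem Eff.mul {c d : Pic X} (h : Eff c) (h' : Eff d) : Eff (c * d) := by
  obtain ⟨L, hL, rfl, s, hs⟩ := h
  obtain ⟨M, hM, rfl, t, ht⟩ := h'
  rw [mk_mul_mk, eff_mk]
  refine ⟨tmulHom s t, fun h0 => ?_⟩
  have h1 := VarietyA.TwistExist.genLocus_nonempty hL s hs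
  have h2 := VarietyA.TwistExist.genLocus_nonempty hM t ht
  obtain ⟨x, hx⟩ := CurvesB.RankOne.inf_nonempty h1 h2
  have h3 : x ∈ CohB1.genLocus _ (tmulHom s t) := by
    rw [genLocus_tmulHom hL hM]; exact hx
  rw [h0] at h3
  obtain ⟨V, hxV, hg⟩ := (mem_genLocus_iff (0 : Coh.structureModule X ⟶ _) x).mp h3
  have h0 : sec (0 : Coh.structureModule X ⟶ CohB1.tensorMod L M) V = 0 := rfl
  rw [h0] at hg
  have h1 : (1 : Γ(X, V)) = 0 := hg.ext (by rw [smul_zero, smul_zero])
  have h2 : (1 : X.presheaf.stalk x) = 0 := by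
    rw [← map_one (X.presheaf.germ V x hxV).hom, ← map_zero (X.presheaf.germ V x hxV).hom, h1]
  exact one_ne_zero h2

theorem Eff.pow {c : Pic X} (h : Eff c) (n : ℕ) : Eff (c ^ n) := by
  induction n with
  | zero => rw [pow_zero]; exact eff_one
  | succ n ih => rw [pow_succ]; exact ih.mul h

omit [AlgebraicGeometry.IsIntegral X] in
theorem shortExact_of_mono {A B : X.Modules} (φ : A ⟶ B) [Mono φ] :
    (ShortComplex.mk φ (cokernel.π φ) (cokernel.condition φ)).ShortExact :=
  { exact := ShortComplex.exact_of_g_is_cokernel _ (cokernelIsCokernel _)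
    mono_f := ‹_›
    epi_g := inferInstanceAs (Epi (cokernel.π φ)) }

omit [AlgebraicGeometry.IsIntegral X] in
theorem mono_tw {N : X.Modules} (hN : PicF.IsInvertible N) {A B : X.Modules} (φ : A ⟶ B) [Mono φ] :
    Mono ((CohqB.SerTw.tw N).map φ) :=
  (CohqB.SerTw.shortExact_tw hN (S := ShortComplex.mk φ (cokernel.π φ) (cokernel.condition φ))
    { exact := ShortComplex.exact_of_g_is_cokernel _ (cokernelIsCokernel _)
      mono_f := ‹_›
      epi_g := inferInstanceAs (Epi (cokernel.π φ)) }).mono_f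

omit [AlgebraicGeometry.IsIntegral X] in
theorem ne_zero_of_mono [Nonempty X] {M : X.Modules} (ψ : Coh.structureModule X ⟶ M) (h : Mono ψ) : ψ ≠ 0 := by
  rintro rfl
  have h4 : 𝟙 (Coh.structureModule X) = 0 := by
    rw [← @cancel_mono _ _ _ _ _ _ h, comp_zero, comp_zero]
  exact id_ne_zero h4

/-- Monomorphisms between invertible modules correspond to nonzero sections of the quotient class. -/
theorem exists_mono_iff {A B : X.Modules} (hA : PicF.IsInvertible A) (hB : PicF.IsInvertible B) :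
    (∃ φ : A ⟶ B, Mono φ) ↔ Eff (mk B hB / mk A hA) := by
  constructor
  · rintro ⟨φ, hφ⟩
    obtain ⟨A', hA', hm'⟩ := exists_mk (mk A hA)⁻¹
    have hm := hm'.symm
    have h1 := mono_tw hA' φ
    have e1 : Nonempty (CohB1.tensorMod A A' ≅ Coh.structureModule X) := by
      rw [← mk_eq_iff (isInvertible_tensorMod hA hA') isInvertible_structureModule, ← mk_mul_mk hA hA',
        hm, mul_inv_cancel]
      rfl
    obtain ⟨e⟩ := e1
    obtain ⟨ψ, hψ⟩ : ∃ ψ : Coh.structureModule X ⟶ CohB1.tensorMod B A', Mono ψ :=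
      ⟨e.inv ≫ (CohqB.SerTw.tw A').map φ, @mono_comp X.Modules _ _ _ _ _ inferInstance _ h1⟩
    have h2 : mk B hB / mk A hA = mk (CohB1.tensorMod B A') (isInvertible_tensorMod hB hA') := by
      rw [← mk_mul_mk hB hA', hm, div_eq_mul_inv]
    rw [h2, eff_mk]
    exact ⟨ψ, ne_zero_of_mono ψ hψ⟩
  · intro h
    obtain ⟨E, hE, hEq, s, hs⟩ := h
    have h1 : Mono s := CurvesB.RankOne.mono_of_ne_zero (CurvesB.InvEmb.locEmb_of_isInvertible hE) s hs
    have h2 := mono_tw hA s
    have e1 : Nonempty (CohB1.tensorMod E A ≅ B) := by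
      rw [← mk_eq_iff (isInvertible_tensorMod hE hA) hB, ← mk_mul_mk hE hA, ← hEq, div_mul_cancel]
    obtain ⟨e⟩ := e1
    exact ⟨(Ega2.Tens.lunit A).inv ≫ (CohqB.SerTw.tw A).map s ≫ e.hom,
      @mono_comp X.Modules _ _ _ _ _ inferInstance _ (@mono_comp X.Modules _ _ _ _ _ h2 _ inferInstance)⟩

end Eff

/-- Bigness of a class: for every ample `a` some `c ^ m / a`, `m > 0`, has a nonzero section. -/
def Big (c : Pic X) : Prop := ∀ a : Pic X, Amp a → ∃ m : ℕ, 0 < m ∧ Eff (c ^ m / a)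

theorem big_mk_iff [AlgebraicGeometry.IsIntegral X] {L : X.Modules} (hL : PicF.IsInvertible L) :
    Big (mk L hL) ↔ ∀ A : X.Modules, CohB1.IsAmple A → ∃ (m : ℕ) (φ : A ⟶ CohB1.tensorPow L m), 0 < m ∧ Mono φ := by
  constructor
  · intro h A hA
    obtain ⟨m, hm, he⟩ := h (mk A hA.1) ((amp_mk hA.1).mpr hA)
    rw [← mk_tensorPow, ← exists_mono_iff] at he
    obtain ⟨φ, hφ⟩ := he
    exact ⟨m, φ, hm, hφ⟩
  · rintro h a ⟨A, hA, rfl, hA'⟩
    obtain ⟨m, φ, hm, hφ⟩ := h A hA'
    refine ⟨m, hm, ?_⟩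
    rw [← mk_tensorPow, ← exists_mono_iff]
    exact ⟨φ, hφ⟩

section Big

variable [AlgebraicGeometry.IsIntegral X] [CompactSpace X] [X.IsSeparated]

/-- Bigness may be tested with one ample class. -/
theorem big_of_exists {c a : Pic X} (ha : Amp a) {m : ℕ} (hm : 0 < m) (h : Eff (c ^ m / a)) : Big c := by
  intro b _
  obtain ⟨n₀, hn₀, hn⟩ := ha.eventually_eff b⁻¹
  refine ⟨m * n₀, Nat.mul_pos hm hn₀, ?_⟩
  have : c ^ (m * n₀) / b = (c ^ m / a) ^ n₀ * (a ^ n₀ * b⁻¹) := by
    rw [pow_mul, div_pow, div_eq_mul_inv, div_eq_mul_inv]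
    group
  rw [this]
  exact (h.pow n₀).mul (hn n₀ le_rfl)

theorem Amp.big {a : Pic X} (ha : Amp a) : Big a :=
  big_of_exists ha one_pos (by rw [pow_one, div_self']; exact eff_one)

theorem Big.mul_eff {c e : Pic X} (hc : Big c) {a : Pic X} (ha : Amp a) (he : Eff e) : Big (c * e) := by
  obtain ⟨m, hm, h⟩ := hc a ha
  refine big_of_exists ha hm ?_
  have : (c * e) ^ m / a = (c ^ m / a) * e ^ m := by
    rw [mul_pow, div_eq_mul_inv, div_eq_mul_inv]; group
    rw [mul_right_comm]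
  rw [this]
  exact h.mul (he.pow m)

/-- The exponent of a big class is `1`. -/
theorem Big.eventually_eff {c a : Pic X} (hc : Big c) (ha : Amp a) :
    ∃ m₁ : ℕ, ∀ m : ℕ, m₁ ≤ m → Eff (c ^ m) := by
  obtain ⟨m₀, hm₀, h⟩ := hc a ha
  choose j hj0 hj using fun r : ℕ => ha.eventually_eff (c ^ r)
  let J := (Finset.range m₀).sup j
  refine ⟨m₀ * J, fun m hm => ?_⟩
  have h1 : J ≤ m / m₀ := by
    rw [Nat.le_div_iff_mul_le hm₀, mul_comm]; exact hm
  have h2 : j (m % m₀) ≤ m / m₀ :=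
    (Finset.le_sup (f := j) (Finset.mem_range.mpr (Nat.mod_lt m hm₀))).trans h1
  have h3 : c ^ m = (c ^ m₀ / a) ^ (m / m₀) * (a ^ (m / m₀) * c ^ (m % m₀)) := by
    conv_lhs => rw [← Nat.div_add_mod m m₀, pow_add, pow_mul]
    rw [div_pow, ← mul_assoc, div_mul_cancel]
  rw [h3]
  exact (h.pow _).mul (hj _ _ h2)

end Big

end K931.Eff
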