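import Groth.Agent.Vanish.K909.NakOf
import Groth.Agent.S7749

/-!
# The Nakai–Moishezon criterion in terms of `inter`
-/

set_option autoImplicit false
universe u

namespace K931.NakC

theorem nak (k : Type u) [Field k] : K909.Kleiman.Nak.{u} k :=
  K909.Kleiman.nak_of_nakCoeff k fun X _ _ L hL h => (Groth.Agent.S7749.result k X L hL).mpr h

end K931.NakC
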