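import Groth.Agent.PosLin.K931.Eff
import Groth.Agent.PosLin.K931.Basic
import Groth.Agent.Vanish.K910.Kodaira

/-!
# Bigness and growth of sections
-/

set_option autoImplicit false
universe u

open CategoryTheory CategoryTheory.Limits AlgebraicGeometry Opposite TopologicalSpace

namespace K931.BigGrowth

open Groth.Agent Groth.Agent.Fdesc.LocGen Groth.Agent.Grpsch.PicGrp K931.Eff K910.HZ K910.Growth
  Groth.Agent.Fga Groth.Agent.Fga.PicMon Groth.Agent.Fga.RegSec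

variable (k : Type u) [Field k] {X : Scheme.{u}} [X.Over (Spec (CommRingCat.of k))]
  [IsProper (X ↘ Spec (CommRingCat.of k))]

/-- The growth condition. -/
def Growth (L : X.Modules) (n : ℕ) : Prop :=
  ∃ C : ℝ, 0 < C ∧ ∃ m₁ : ℕ, ∀ m : ℕ, m₁ ≤ m →
        C * (m : ℝ) ^ n ≤ (Module.finrank k (Coh.HH X (CohB1.tensorPow L m) 0) : ℝ)

theorem growth_iff (L : X.Modules) (n : ℕ) :
    Growth k L n ↔ ∃ C : ℝ, 0 < C ∧ ∃ m₁ : ℕ, ∀ m : ℕ, m₁ ≤ m →
        C * (m : ℝ) ^ n ≤ (HZ k X (mc L ^ m) : ℝ) := by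
  have h (m : ℕ) : HZ k X (mc L ^ m) = Module.finrank k (Coh.HH X (CohB1.tensorPow L m) 0) := by
    rw [← mc_tensorPow, HZ_mc]
  unfold Growth
  simp only [h]

variable [IsIntegral X]

theorem HZ_le_add {L : X.Modules} (hL : PicF.IsInvertible L) {r : ℕ} (h : Eff (mk L hL ^ r)) (m : ℕ) :
    HZ k X (mc L ^ m) ≤ HZ k X (mc L ^ (m + r)) := by
  rw [← mk_tensorPow, eff_mk] at h
  obtain ⟨s, hs⟩ := h
  have hN := Fdesc.LocGen.isInvertible_tensorPow hL r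
  have h1 := HZ_le_mulS k (c := mc L ^ m) hN (HodgeSec.isCoh_of_isInvertible isInvertible_structureModule) s
    (HodgeSec.mono_mulS hN isInvertible_structureModule s hs) ((inv_mc hL).pow m)
  rw [mc_one, mul_one, mul_one, mc_tensorPow, ← pow_add] at h1
  exact h1

theorem growth_of_big (n : ℕ) (hn : topologicalKrullDim X = n) {H : X.Modules} (hH : CohB1.IsAmple H)
    {L : X.Modules} (hL : PicF.IsInvertible L)
    (h : ∀ A : X.Modules, CohB1.IsAmple A → ∃ (m : ℕ) (φ : A ⟶ CohB1.tensorPow L m), 0 < m ∧ Mono φ) :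
    Growth k L n := by
  have := K931.Basic.isNoetherian k X
  have := K931.Basic.isSeparated k X
  rw [growth_iff]
  obtain ⟨m, φ, hm, hφ⟩ := h H hH
  obtain ⟨ν, a, hν, ha, hg⟩ := K910.Kodaira.lower_of_mono k n hn hL hm hH φ hφ
  obtain ⟨m₁, hm₁⟩ := ((big_mk_iff hL).mpr h).eventually_eff ((amp_mk hH.1).mpr hH)
  refine ⟨1 / (((2 * ν : ℕ) : ℝ) ^ n * a), by positivity, 2 * (m₁ + ν), fun m hle => ?_⟩
  obtain ⟨μ, r, hr, hmr, h1, h2⟩ : ∃ μ r : ℕ, m₁ ≤ r ∧ m = ν * μ + r ∧ 1 ≤ μ ∧ m ≤ 2 * ν * μ := by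
    refine ⟨(m - m₁) / ν, m₁ + (m - m₁) % ν, by omega, ?_, ?_, ?_⟩
    · have := Nat.div_add_mod (m - m₁) ν
      omega
    · rw [Nat.le_div_iff_mul_le hν]; omega
    · have h3 := Nat.div_add_mod (m - m₁) ν
      have h4 := Nat.mod_lt (m - m₁) hν
      rw [mul_assoc]
      omega
  have h3 := hg μ h1
  have h4 := HZ_le_add k hL (hm₁ r hr) (ν * μ)
  rw [← hmr] at h4
  have h5 : m ^ n ≤ (2 * ν) ^ n * (a * HZ k X (mc L ^ m)) := by
    calc m ^ n ≤ (2 * ν * μ) ^ n := Nat.pow_le_pow_left h2 n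
      _ = (2 * ν) ^ n * μ ^ n := mul_pow _ _ _
      _ ≤ (2 * ν) ^ n * (a * HZ k X (mc L ^ m)) := by gcongr; exact h3.trans (by gcongr)
  rw [one_div, ← div_eq_inv_mul, div_le_iff₀ (by positivity)]
  have h6 : ((m ^ n : ℕ) : ℝ) ≤ (((2 * ν) ^ n * (a * HZ k X (mc L ^ m)) : ℕ) : ℝ) := by exact_mod_cast h5
  push_cast at h6 ⊢
  linarith

theorem big_of_growth (n : ℕ) (hn : topologicalKrullDim X = n) {H : X.Modules} (hH : CohB1.IsAmple H)
    {L : X.Modules} (hL : PicF.IsInvertible L) (h : Growth k L n) :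
    ∀ A : X.Modules, CohB1.IsAmple A → ∃ (m : ℕ) (φ : A ⟶ CohB1.tensorPow L m), 0 < m ∧ Mono φ := by
  have := K931.Basic.isNoetherian k X
  have := K931.Basic.isSeparated k X
  rw [growth_iff] at h
  rw [← big_mk_iff hL]
  obtain ⟨C, hC, m₁, hg⟩ := h
  obtain ⟨n₀, hn₀, he⟩ := ((amp_mk hH.1).mpr hH).eventually_eff 1
  have hB := Fdesc.LocGen.isInvertible_tensorPow hH.1 n₀
  have he' := he n₀ le_rfl
  rw [mul_one, ← mk_tensorPow, eff_mk] at he'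
  obtain ⟨s, hs⟩ := he'
  obtain ⟨B', hB', hBB'⟩ := exists_inv hB
  obtain ⟨a, ha⟩ := exists_nat_gt (1 / C)
  have ha0 : 0 < a := by
    have : (0 : ℝ) < a := lt_trans (by positivity) ha
    exact_mod_cast this
  have haC : 1 ≤ a * C := by
    rw [div_lt_iff₀ hC] at ha
    exact ha.le
  obtain ⟨μ₀, hμ₀⟩ := K910.Kodaira.exists_pos k n hn hH hL hB hB' hBB' s hs (ν := m₁ + 1) (a := a) (Nat.succ_pos _)
    ha0 (fun μ hμ => by
      have h1 := hg ((m₁ + 1) * μ) (by nlinarith)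
      have h2 : (μ : ℝ) ^ n ≤ (((m₁ + 1) * μ : ℕ) : ℝ) ^ n := by
        gcongr
        nlinarith
      have h3 : (μ : ℝ) ^ n ≤ a * HZ k X (mc L ^ ((m₁ + 1) * μ)) := by
        calc (μ : ℝ) ^ n ≤ (((m₁ + 1) * μ : ℕ) : ℝ) ^ n := h2
          _ ≤ (a * C) * (((m₁ + 1) * μ : ℕ) : ℝ) ^ n := le_mul_of_one_le_left (by positivity) haC
          _ = a * (C * (((m₁ + 1) * μ : ℕ) : ℝ) ^ n) := by ring
          _ ≤ _ := by gcongr
      exact_mod_cast h3)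
  have h1 := hμ₀ (μ₀ + 1) (Nat.le_succ _)
  refine big_of_exists (a := mk _ hB) ((mk_tensorPow hH.1 n₀ ▸ ((amp_mk hH.1).mpr hH).pow hn₀)) (m := (m₁ + 1) * (μ₀ + 1)) (by positivity) ?_
  have hinv : mk B' hB' = (mk _ hB)⁻¹ := by
    rw [eq_inv_iff_mul_eq_one, mk_mul_mk, one_def, mk_eq_iff, ← mc_eq_iff, mc_tensor, hBB', mc_one]
  rw [div_eq_mul_inv, ← hinv, ← mk_tensorPow, mk_mul_mk, eff_mk, ← K931.Basic.nontrivial_H0_iff]
  rw [← mc_tensorPow, ← mc_tensor, HZ_mc] at h1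
  exact Module.nontrivial_of_finrank_pos h1

end K931.BigGrowth
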