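import Groth.Agent.PosLin.K931.NefGrowth
import Groth.Agent.PosLin.K931.BigGrowth
import Groth.Agent.Fga.PosZero

/-!
# Bigness of nef modules and the top self-intersection number
-/

set_option autoImplicit false
universe u
open CategoryTheory CategoryTheory.Limits AlgebraicGeometry TopologicalSpace

namespace K931.NefMain

open Groth.Agent Groth.Agent.Fga Groth.Agent.Fga.PicMon Groth.Agent.Fga.RegSec K910.HZ K910.Growth K931.HQ
  K931.NumGrowth K909.Kleiman Groth.Agent.Fdesc.LocGen K931.NefGrowth K931.BigGrowth K909.InterML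

theorem abs_sub_le (h : ℕ → ℕ) (n : ℕ) :
    |(h 0 : ℤ) - ∑ i ∈ Finset.range (n + 1), (-1 : ℤ) ^ i * (h i : ℤ)| ≤ ∑ i ∈ Finset.range n, (h (i + 1) : ℤ) := by
  rw [Finset.sum_range_succ']
  simp only [pow_zero, one_mul]
  rw [sub_add_cancel_right, abs_neg]
  refine (Finset.abs_sum_le_sum_abs _ _).trans (Finset.sum_le_sum fun i _ => ?_)
  rw [abs_mul, abs_pow, abs_neg, abs_one, one_pow, one_mul, abs_of_nonneg (Int.natCast_nonneg _)]

variable {k : Type u} [Field k] (nak : Nak.{u} k) {X : Scheme.{u}} [X.Over (Spec (CommRingCat.of k))]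
  [IsProper (X ↘ Spec (CommRingCat.of k))] [IsIntegral X]
  {A : X.Modules} (hA : CohB1.IsAmple A) {L : X.Modules} (hL : PicF.IsInvertible L) (hnef : Nef k X L)

include nak hA hnef in
/-- `n! h⁰(L^m) = (L^n) m^n + O(m^{n-1})`. -/
theorem h0_asym {r : ℕ} (hr : topologicalKrullDim X = ((r + 1 : ℕ) : WithBot ℕ∞)) :
    ∃ C : ℕ, ∀ m : ℕ, |((r + 1).factorial : ℤ) * (HZ k X (mc L ^ m) : ℤ) -
      inter k X (r + 1) (Coh.structureModule X) (fun _ : Fin (r + 1) => Grpsch.PicGrp.mk L hL) * (m : ℤ) ^ (r + 1)| ≤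
        C * ((m : ℤ) + 1) ^ r := by
  have hO : Coh.IsCoh (Coh.structureModule X) := HodgeSec.isCoh_of_isInvertible isInvertible_structureModule
  have hdim : topologicalKrullDim (CohB1.support (Coh.structureModule X)) = ((r + 1 : ℕ) : WithBot ℕ∞) := by
    rw [dim_unit, hr]
  obtain ⟨C, hC⟩ := ChiAsym.asym k X (r + 1) hL hr.le hO hdim.le
  obtain ⟨C', hC'⟩ : IsO (r + 1) (fun m => ∑ i ∈ Finset.range (r + 1), HQ k X (i + 1) (mc L ^ m * mc (Coh.structureModule X))) :=
    IsO.sum _ fun i _ => est nak (r + 1) X A hA L hL hnef _ hO hdim.le i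
  refine ⟨(r + 1).factorial * C' + C, fun m => ?_⟩
  have h1 := abs_sub_le (fun i => HQ k X i (mc L ^ m * mc (Coh.structureModule X))) (r + 1)
  have h2 := hC m
  have h3 := hC' m
  beta_reduce at h1 h2 h3
  set χ : ℤ := ∑ i ∈ Finset.range (r + 1 + 1), (-1 : ℤ) ^ i * (HQ k X i (mc L ^ m * mc (Coh.structureModule X)) : ℤ) with hχ
  have h4 : HQ k X 0 (mc L ^ m * mc (Coh.structureModule X)) = HZ k X (mc L ^ m) := by
    rw [mc_one, mul_one, HZ_eq]
  rw [h4] at h1
  have h5 : |(HZ k X (mc L ^ m) : ℤ) - χ| ≤ C' * ((m : ℤ) + 1) ^ r := h1.trans (by exact_mod_cast h3)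
  set e := inter k X (r + 1) (Coh.structureModule X) (fun _ : Fin (r + 1) => Grpsch.PicGrp.mk L hL) with he
  have h6 : ((r + 1).factorial : ℤ) * (HZ k X (mc L ^ m) : ℤ) - e * (m : ℤ) ^ (r + 1) =
      ((r + 1).factorial : ℤ) * ((HZ k X (mc L ^ m) : ℤ) - χ) + (((r + 1).factorial : ℤ) * χ - e * (m : ℤ) ^ (r + 1)) := by
    ring
  rw [h6]
  refine (abs_add_le _ _).trans ?_
  rw [abs_mul, abs_of_nonneg (Int.natCast_nonneg _)]
  push_cast
  rw [add_mul, mul_assoc]
  exact add_le_add (mul_le_mul_of_nonneg_left h5 (Int.natCast_nonneg _)) h2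

include nak hA hnef in
/-- A nef invertible module is of maximal growth iff its top self-intersection is positive. -/
theorem growth_iff_pos {n : ℕ} (hn : topologicalKrullDim X = (n : WithBot ℕ∞)) :
    Growth k L n ↔ 0 < inter k X n (Coh.structureModule X) (fun _ : Fin n => Grpsch.PicGrp.mk L hL) := by
  rw [growth_iff]
  have hO : Coh.IsCoh (Coh.structureModule X) := HodgeSec.isCoh_of_isInvertible isInvertible_structureModule
  rcases n with _ | r
  · -- points
    have hpos : ∀ m, 0 < HZ k X (mc L ^ m) := by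
      intro m
      have hdim : topologicalKrullDim (CohB1.support (CohB1.tensorMod (CohB1.tensorPow L m) (Coh.structureModule X))) =
          (0 : ℕ) := by
        rw [ChiAsym.support_twist X hL, dim_unit, hn]
      have h1 := PosZero.euler_pos k X 0 _ (isCoh_tensor (isInvertible_tensorPow hL m) hO) hdim
      unfold FGA.eulerCharLE at h1
      rw [Finset.sum_range_one, pow_zero, one_mul, ← HZ_mc, mc_tensor, mc_one, mul_one, mc_tensorPow] at h1
      exact_mod_cast h1
    refine ⟨fun _ => ?_, fun _ => ⟨1, one_pos, 0, fun m _ => ?_⟩⟩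
    · rw [inter_zero]
      exact PosZero.euler_pos k X 0 _ hO (by rw [dim_unit, hn]; rfl)
    · rw [pow_zero, mul_one]
      exact_mod_cast hpos m
  · obtain ⟨C, hC⟩ := h0_asym nak hA hL hnef hn
    set e := inter k X (r + 1) (Coh.structureModule X) (fun _ : Fin (r + 1) => Grpsch.PicGrp.mk L hL) with he
    have hfac : (0 : ℝ) < ((r + 1).factorial : ℝ) := by exact_mod_cast Nat.factorial_pos _
    have hCR : ∀ m : ℕ, 1 ≤ m → |((r + 1).factorial : ℝ) * (HZ k X (mc L ^ m) : ℝ) - e * (m : ℝ) ^ (r + 1)| ≤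
        (C * 2 ^ r) * (m : ℝ) ^ r := by
      intro m hm
      have h1 : (((|((r + 1).factorial : ℤ) * (HZ k X (mc L ^ m) : ℤ) - e * (m : ℤ) ^ (r + 1)| : ℤ)) : ℝ) ≤
          ((C * ((m : ℤ) + 1) ^ r : ℤ) : ℝ) := by exact_mod_cast hC m
      push_cast at h1
      refine h1.trans ?_
      have h2 : ((m : ℝ) + 1) ^ r ≤ 2 ^ r * (m : ℝ) ^ r := by
        rw [← mul_pow]
        have : (1 : ℝ) ≤ m := by exact_mod_cast hm
        gcongr
        linarith
      calc (C : ℝ) * ((m : ℝ) + 1) ^ r ≤ C * (2 ^ r * (m : ℝ) ^ r) := by gcongr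
        _ = _ := by ring
    constructor
    · rintro ⟨c, hc, m₁, hm₁⟩
      by_contra hle
      push Not at hle
      obtain ⟨M, hM⟩ := exists_nat_gt ((C * 2 ^ r : ℝ) / (((r + 1).factorial : ℝ) * c))
      set m := max m₁ (M + 1) with hm
      have hm1 : 1 ≤ m := (Nat.succ_le_succ (Nat.zero_le M)).trans (le_max_right _ _)
      have hmR : (0 : ℝ) < m := by exact_mod_cast hm1
      have h1 := hm₁ m (le_max_left _ _)
      have h2 := (abs_le.mp (hCR m hm1)).2
      have h3 : (e : ℝ) * (m : ℝ) ^ (r + 1) ≤ 0 :=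
        mul_nonpos_of_nonpos_of_nonneg (by exact_mod_cast hle) (by positivity)
      have h4 : ((r + 1).factorial : ℝ) * (c * (m : ℝ) ^ (r + 1)) ≤ (C * 2 ^ r) * (m : ℝ) ^ r := by
        have := mul_le_mul_of_nonneg_left h1 hfac.le
        linarith
      have h5 : (((r + 1).factorial : ℝ) * c) * m ≤ C * 2 ^ r := by
        have h6 : (((r + 1).factorial : ℝ) * c * m) * (m : ℝ) ^ r ≤ (C * 2 ^ r) * (m : ℝ) ^ r := by
          calc (((r + 1).factorial : ℝ) * c * m) * (m : ℝ) ^ r = ((r + 1).factorial : ℝ) * (c * (m : ℝ) ^ (r + 1)) := by ring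
            _ ≤ _ := h4
        exact le_of_mul_le_mul_right h6 (by positivity)
      have h7 : (C * 2 ^ r : ℝ) < M * (((r + 1).factorial : ℝ) * c) := by
        rwa [div_lt_iff₀ (by positivity)] at hM
      have h8 : (M : ℝ) ≤ m := by
        have : M ≤ m := (Nat.le_succ M).trans (le_max_right _ _)
        exact_mod_cast this
      have h9 : (M : ℝ) * (((r + 1).factorial : ℝ) * c) ≤ m * (((r + 1).factorial : ℝ) * c) := by gcongr
      linarith [mul_comm (m : ℝ) (((r + 1).factorial : ℝ) * c)]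
    · intro hpos
      refine ⟨1 / (2 * ((r + 1).factorial : ℝ)), by positivity, 2 * (C * 2 ^ r) + 1, fun m hm => ?_⟩
      have hm1 : 1 ≤ m := le_trans (Nat.le_add_left _ _) hm
      have h2 := (abs_le.mp (hCR m hm1)).1
      have he1 : (1 : ℝ) ≤ e := by exact_mod_cast hpos
      have hmR : (2 * (C * 2 ^ r) : ℝ) ≤ m := by
        have : 2 * (C * 2 ^ r) ≤ m := (Nat.le_succ _).trans hm
        exact_mod_cast this
      have h3 : (m : ℝ) ^ (r + 1) ≤ e * (m : ℝ) ^ (r + 1) := le_mul_of_one_le_left (by positivity) he1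
      have h4 : (2 * (C * 2 ^ r)) * (m : ℝ) ^ r ≤ (m : ℝ) ^ (r + 1) := by
        rw [pow_succ']
        gcongr
      rw [div_mul_eq_mul_div, one_mul, div_le_iff₀ (by positivity)]
      linarith

end K931.NefMain
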