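import Groth.Agent.Grpsch.GrowthFF
import Groth.Prelude.Def_Pi1

/-!
# Normality descends along `f : X ⟶ Y` with `O_Y ≅ f_* O_X`
-/

set_option autoImplicit false
universe u

open CategoryTheory CategoryTheory.Limits AlgebraicGeometry TopologicalSpace

namespace K931.NormalFib

open Groth.Agent.Grpsch.GrowthFF Groth.Agent.Dix.Center

/-- Sections of a normal integral scheme over any nonempty open form an integrally closed domain. -/
theorem isIntegrallyClosed_sections {X : Scheme.{u}} [AlgebraicGeometry.IsIntegral X]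
    (hX : ∀ x : X, IsIntegrallyClosed (X.presheaf.stalk x)) (W : X.Opens) [Nonempty W] :
    IsIntegrallyClosed Γ(X, W) := by
  have hη : genericPoint X ∈ W :=
    ((genericPoint_spec X).mem_open_set_iff W.isOpen).mpr (by simpa using ‹Nonempty W›)
  have hdom : IsDomain Γ(X, W) := inferInstance
  rw [isIntegrallyClosed_iff (FractionRing Γ(X, W))]
  intro z hz
  -- the embedding of the fraction field
  let g : Γ(X, W) →+* X.functionField := (X.presheaf.germ W (genericPoint X) hη).hom
  have hg : Function.Injective g := germ_injective_of_isIntegral X (genericPoint X) hη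
  let φ : FractionRing Γ(X, W) →+* X.functionField := IsFractionRing.lift hg
  have hφ : ∀ a : Γ(X, W), φ (algebraMap _ _ a) = g a := fun a => IsFractionRing.lift_algebraMap hg a
  have hφi : Function.Injective φ := φ.injective
  obtain ⟨s, hs⟩ := exists_section W hη (φ z) (fun x hx => by
    have h1 : IsIntegral (X.presheaf.stalk x) (φ z) := by
      obtain ⟨p, hp, hpz⟩ := hz
      refine ⟨p.map (X.presheaf.germ W x hx).hom, hp.map _, ?_⟩
      have h3 : (algebraMap (X.presheaf.stalk x) X.functionField).comp (X.presheaf.germ W x hx).hom = g := by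
        ext a
        exact toK_germ hx a hη
      rw [Polynomial.eval₂_map, h3]
      have h4 : g = φ.comp (algebraMap _ _) := by
        ext a; exact (hφ a).symm
      rw [h4, ← Polynomial.hom_eval₂, hpz, map_zero]
    have := hX x
    obtain ⟨y, hy⟩ := (isIntegrallyClosed_iff X.functionField).mp (hX x) h1
    exact ⟨y, hy⟩)
  refine ⟨s, hφi ?_⟩
  rw [hφ]
  exact hs

theorem isNormalScheme_of_bijective {X Y : Scheme.{u}} [AlgebraicGeometry.IsIntegral X]
    [AlgebraicGeometry.IsIntegral Y] (f : X ⟶ Y) [Surjective f]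
    (hf : ∀ U : Y.Opens, Function.Bijective (f.app U)) (hX : Pi1.IsNormalScheme X) :
    Pi1.IsNormalScheme Y := by
  intro y
  refine ⟨inferInstance, ?_⟩
  obtain ⟨_, ⟨V, hV, rfl⟩, hyV, -⟩ := Y.isBasis_affineOpens.exists_subset_of_mem_open (Set.mem_univ y) isOpen_univ
  obtain ⟨x, rfl⟩ := f.surjective y
  have : Nonempty (f ⁻¹ᵁ V : X.Opens) := ⟨⟨x, hyV⟩⟩
  have : Nonempty V := ⟨⟨f x, hyV⟩⟩
  have h1 : IsIntegrallyClosed Γ(X, f ⁻¹ᵁ V) := isIntegrallyClosed_sections (fun x => (hX x).2) _
  let e : Γ(Y, V) ≃+* Γ(X, f ⁻¹ᵁ V) := RingEquiv.ofBijective (f.app V).hom (hf V)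
  have h2 : IsIntegrallyClosed Γ(Y, V) := IsIntegrallyClosed.of_equiv e.symm
  have hloc := hV.isLocalization_stalk ⟨f x, hyV⟩
  let _ := TopCat.Presheaf.algebra_section_stalk Y.presheaf (U := V) ⟨f x, hyV⟩
  exact isIntegrallyClosed_of_isLocalization (R := Γ(Y, V)) (S := Y.presheaf.stalk (f x))
    (hV.primeIdealOf ⟨f x, hyV⟩).asIdeal.primeCompl (Ideal.primeCompl_le_nonZeroDivisors _)

end K931.NormalFib
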