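import Groth.Agent.PosLin.K931.MulSurj
import Groth.Agent.PosLin.K931.Descend
import Groth.Agent.PosLin.K931.Basic
import Groth.Agent.VarietyA.AmpleField
import Groth.Agent.VarietyB.ProjSpaceProper
import Groth.Agent.Fga.HodgePush
import Groth.Agent.S0051
import Groth.Agent.CohqB.LocBaseVan

/-!
# Surjectivity of multiplication maps of sections: main theorem
-/

set_option autoImplicit false
universe u

open CategoryTheory CategoryTheory.Limits AlgebraicGeometry Opposite TopologicalSpace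

attribute [local instance] Abelian.hasFiniteBiproducts

namespace K931.MulSurj

open Groth.Agent Groth.Agent.Fdesc.LocGen Groth.Agent.CohqB.SerTw
open Groth.Agent.Ega2 Groth.Agent.Ega2.TensGen Groth.Agent.Ega2.TensPow

open scoped TensorProduct

variable {X P : Scheme.{u}}

theorem isCoh_mu_kernel [IsLocallyNoetherian X] {L : X.Modules} (hL : PicF.IsInvertible L) {n : ℕ}
    (s : Fin n → Γ(L, ⊤)) {F : X.Modules} (hF : Coh.IsCoh F) : Coh.IsCoh (kernel (mu s F)) := by
  exact isCoh_kernel _ (CohqB.LocBaseVan.isCoh_biproduct _ fun _ => hF) (isCoh_tensorMod hF hL).1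

theorem exists_gen_pull {k : Type u} [Field k] (p : P ⟶ Spec (CommRingCat.of k)) [IsProper p]
    (f : X ⟶ P) [IsProper f] {A : P.Modules} (hA : CohB1.IsAmple A) {n : ℕ}
    (c : Fin n → (Coh.structureModule P ⟶ A)) (hc : ⨆ i, CohB1.genLocus A (c i) = ⊤)
    (F : X.Modules) (hF : Coh.IsCoh F) :
    ∃ (s : Fin n → Γ((Scheme.Modules.pullback f).obj A, ⊤)) (a₀ : ℕ), ∀ a, a₀ ≤ a →
      Gen s (CohB1.tensorMod F (CohB1.tensorPow ((Scheme.Modules.pullback f).obj A) a)) := by
  have : IsLocallyNoetherian P := LocallyOfFiniteType.isLocallyNoetherian p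
  have : IsLocallyNoetherian X := LocallyOfFiniteType.isLocallyNoetherian f
  have hL := isInvertible_pullback f hA.1
  let s : Fin n → Γ((Scheme.Modules.pullback f).obj A, ⊤) := fun i => sec (Weight.pullHom f (c i)) ⊤
  have hcoh := isCoh_mu_kernel hL s hF
  obtain ⟨a₀, ha₀⟩ := (S0051.result k P p A hA.1).mp hA _ (Fga.HodgePush.isCoh_push f hcoh)
  refine ⟨s, a₀, fun a ha => gen_of_subsingleton s f (fun q => ?_) F (isInvertible_tensorPow hL a) ?_⟩
  · have hq : q ∈ ⨆ i, CohB1.genLocus A (c i) := hc ▸ trivial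
    rw [Opens.mem_iSup] at hq
    obtain ⟨i, hi⟩ := hq
    refine ⟨CohB1.genLocus A (c i), i, hi, ?_⟩
    rw [res_sec, Weight.sec_pullHom]
    exact (isGen_sec_genLocus (c i)).pullSec f
  · obtain ⟨e⟩ := CohqB.FinAmple.nonempty_push_tw f hA.1 (kernel (mu s F)) a
    exact Fga.HShift.subsingleton_of_iso e 1 (ha₀ a ha 1 one_pos)

theorem Gen.of_iso_right {L L' : X.Modules} {n : ℕ} {s : Fin n → Γ(L, ⊤)} (e : L ≅ L') {G : X.Modules}
    (h : Gen s G) : Gen (fun i => (e.hom.app ⊤ (s i) : Γ(L', ⊤))) G := by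
  intro t
  obtain ⟨u, hu⟩ := h ((Tens.mapTIso (Iso.refl G) e).inv.app ⊤ t)
  refine ⟨u, ?_⟩
  have h1 := congrArg ((Tens.mapTIso (Iso.refl G) e).hom.app ⊤) hu
  rw [app_symm_app, map_sum] at h1
  rw [h1]
  refine Finset.sum_congr rfl fun i _ => ?_
  exact mapTIso_tmul (Iso.refl G) e (u i) (s i)

theorem exists_gen {k : Type u} [Field k] (q : X ⟶ Spec (CommRingCat.of k)) [IsProper q]
    {L : X.Modules} (hL : PicF.IsInvertible L) (hg : Curv2.IsGloballyGenerated L)
    (F : X.Modules) (hF : Coh.IsCoh F) :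
    ∃ (n : ℕ) (s : Fin n → Γ(L, ⊤)) (a₀ : ℕ), ∀ a, a₀ ≤ a → Gen s (CohB1.tensorMod F (CohB1.tensorPow L a)) := by
  have : CompactSpace X := QuasiCompact.compactSpace_of_compactSpace q
  obtain ⟨n, r, hr, ⟨τ⟩⟩ := Descend.exists_map q hL hg
  have : IsProper (r ≫ CohB1.ProjSpace.toSpec n k) := by rw [hr]; infer_instance
  have : IsProper r := .of_comp r (CohB1.ProjSpace.toSpec n k)
  obtain ⟨s, a₀, h⟩ := exists_gen_pull (CohB1.ProjSpace.toSpec n k) r
    (VarietyA.AmpleField.isAmple_twistProjSpace n k) (fun j => Ega2.VeryAmpleAmple.coordSec (R := k) j) (by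
      rw [eq_top_iff]
      intro x _
      obtain ⟨j, hj⟩ := PerfB.ProjSpaceCover.exists_mem_basicOpen_X n k x
      rw [Opens.mem_iSup]
      refine ⟨j, ?_⟩
      rw [Ega2.VeryAmpleAmple.genLocus_coordSec]
      exact hj) F hF
  refine ⟨_, _, a₀, fun a ha => ((h a ha).of_iso_right τ).of_iso _ ?_⟩
  exact Tens.mapTIso (Iso.refl F) (powIso τ a)

theorem range_of_gen {L : X.Modules} {n : ℕ} {s : Fin n → Γ(L, ⊤)} {G : X.Modules}
    (h : ∀ b, Gen s (CohB1.tensorMod G (CohB1.tensorPow L b))) (b : ℕ)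
    (t : Γ(CohB1.tensorMod G (CohB1.tensorPow L b), ⊤)) :
    ∃ z, tmulLin G (CohB1.tensorPow L b) ⊤ z = t := by
  induction b with
  | zero =>
    refine ⟨((Tens.runit G).hom.app ⊤ t : Γ(G, ⊤)) ⊗ₜ one ⊤, ?_⟩
    have h1 : (Tens.runit G).hom.app ⊤ (tmul ((Tens.runit G).hom.app ⊤ t : Γ(G, ⊤)) (one ⊤)) =
      (Tens.runit G).hom.app ⊤ t := runit_tmul _
    have h2 := congrArg ((Tens.runit G).inv.app ⊤) h1
    rw [symm_app_app, symm_app_app] at h2
    exact h2
  | succ b ih =>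
    obtain ⟨u, hu⟩ := h b ((Tens.assoc G (CohB1.tensorPow L b) L).inv.app ⊤ t)
    have h1 := congrArg ((Tens.assoc G (CohB1.tensorPow L b) L).hom.app ⊤) hu
    rw [app_symm_app, map_sum] at h1
    have key : ∀ (i : Fin n), ∃ z, tmulLin G (CohB1.tensorPow L (b + 1)) ⊤ z =
        (Tens.assoc G (CohB1.tensorPow L b) L).hom.app ⊤ (tmul (u i) (s i)) := by
      intro i
      obtain ⟨z, hz⟩ := ih (u i)
      rw [← hz]
      clear hz
      induction z using TensorProduct.induction_on with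
      | zero =>
        refine ⟨0, ?_⟩
        rw [map_zero, map_zero]
        refine Eq.trans ?_ (congrArg _ (zero_tmul _).symm)
        rw [map_zero]
        rfl
      | tmul g l => exact ⟨g ⊗ₜ (tmul l (s i) : Γ(CohB1.tensorPow L (b + 1), ⊤)), (assoc_tmul g l (s i)).symm⟩
      | add x y hx hy =>
        obtain ⟨z₁, h₁⟩ := hx
        obtain ⟨z₂, h₂⟩ := hy
        refine ⟨z₁ + z₂, ?_⟩
        rw [map_add, h₁, h₂, map_add, add_tmul, map_add]
        rfl
    choose z hz using key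
    refine ⟨∑ i, z i, ?_⟩
    rw [map_sum]
    refine Eq.trans (Finset.sum_congr rfl fun i _ => hz i) h1.symm

theorem exists_surjective {k : Type u} [Field k] (q : X ⟶ Spec (CommRingCat.of k)) [IsProper q]
    {L : X.Modules} (hL : PicF.IsInvertible L) (hg : Curv2.IsGloballyGenerated L)
    (F : X.Modules) (hF : Coh.IsCoh F) :
    ∃ m₀ : ℕ, 0 < m₀ ∧ ∀ a b : ℕ, m₀ ≤ a → m₀ ≤ b →
      Function.Surjective
        ((toSheafify (Opens.grothendieckTopology X)
          (CohB1.tensorPre (CohB1.tensorMod F (CohB1.tensorPow L a)) (CohB1.tensorPow L b)).presheaf).app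
          (Opposite.op ⊤)) := by
  obtain ⟨n, s, a₀, h⟩ := exists_gen q hL hg F hF
  refine ⟨a₀ + 1, Nat.succ_pos _, fun a b ha _ t => ?_⟩
  have h1 : ∀ b, Gen s (CohB1.tensorMod (CohB1.tensorMod F (CohB1.tensorPow L a)) (CohB1.tensorPow L b)) :=
    fun b => (h (a + b) (by omega)).of_iso _ (tensPowAdd F L a b).symm
  obtain ⟨z, hz⟩ := range_of_gen h1 b t
  exact ⟨z, hz⟩

end K931.MulSurj
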