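import Groth.Agent.Divis.AmpleFin
import Groth.Agent.Ega2.SecCalc

/-!
# Base loci of the powers of an invertible module

`bs L m` is the base locus of `L^{⊗ m}`, `sbs L` the intersection of the `bs L m`, `m ≥ 1`.
-/

set_option autoImplicit false
universe u

open CategoryTheory CategoryTheory.Limits AlgebraicGeometry Opposite TopologicalSpace

namespace K931.BaseLocus

open Groth.Agent.Fdesc.LocGen Groth.Agent.Divis.AmpleFin

variable {X : Scheme.{u}}

/-- Base locus of `M`. -/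
def bs (M : X.Modules) : Set X := {x : X | ∀ s : Coh.structureModule X ⟶ M, x ∉ CohB1.genLocus M s}

/-- Stable base locus. -/
def sbs (L : X.Modules) : Set X :=
  {x : X | ∀ m : ℕ, 0 < m → ∀ s : Coh.structureModule X ⟶ CohB1.tensorPow L m,
    x ∉ CohB1.genLocus (CohB1.tensorPow L m) s}

theorem isClosed_bs (M : X.Modules) : IsClosed (bs M) := by
  have : bs M = ⋂ s : Coh.structureModule X ⟶ M, ((CohB1.genLocus M s : Set X))ᶜ := by
    ext x; simp [bs]
  rw [this]
  exact isClosed_iInter fun s => (CohB1.genLocus M s).isOpen.isClosed_compl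

theorem sbs_subset (L : X.Modules) {m : ℕ} (hm : 0 < m) : sbs L ⊆ bs (CohB1.tensorPow L m) :=
  fun _ hx s => hx m hm s

theorem mem_sbs_iff (L : X.Modules) (x : X) :
    x ∈ sbs L ↔ ∀ m : ℕ, 0 < m → x ∈ bs (CohB1.tensorPow L m) := Iff.rfl

theorem bs_mul_subset [CompactSpace X] {L : X.Modules} (hL : PicF.IsInvertible L) (m : ℕ) {k : ℕ} (hk : 0 < k) :
    bs (CohB1.tensorPow L (m * k)) ⊆ bs (CohB1.tensorPow L m) := by
  intro x hx s hs
  obtain ⟨t, ht⟩ := exists_pow hL s hk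
  exact hx t (ht ▸ hs)

theorem bs_mul_subset' [CompactSpace X] {L : X.Modules} (hL : PicF.IsInvertible L) (m : ℕ) {k : ℕ} (hk : 0 < k) :
    bs (CohB1.tensorPow L (k * m)) ⊆ bs (CohB1.tensorPow L m) := by
  rw [mul_comm]; exact bs_mul_subset hL m hk

/-- Among the base loci of the positive powers there is a minimal one, and it is the stable base locus. -/
theorem exists_eq [NoetherianSpace X] {L : X.Modules} (hL : PicF.IsInvertible L) :
    ∃ n₀ : ℕ, 0 < n₀ ∧ ∀ k : ℕ, 0 < k → sbs L = bs (CohB1.tensorPow L (k * n₀)) := by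
  have hwf : WellFounded (fun s t : Closeds X => s < t) := wellFounded_lt
  let f : {m : ℕ // 0 < m} → Closeds X := fun m => ⟨bs (CohB1.tensorPow L m.1), isClosed_bs _⟩
  have hne : (Set.range f).Nonempty := ⟨_, ⟨⟨1, one_pos⟩, rfl⟩⟩
  obtain ⟨⟨n₀, hn₀⟩, hmin⟩ : ∃ n₀ : {m : ℕ // 0 < m}, ∀ m, ¬ f m < f n₀ := by
    obtain ⟨n₀, hn₀⟩ := hwf.has_min (Set.range f) hne |>.imp fun _ h => h
    obtain ⟨⟨m, hm⟩, h2⟩ := hn₀
    exact ⟨m, fun m' => by rw [hm]; exact h2 _ ⟨m', rfl⟩⟩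
  have key : ∀ m : ℕ, 0 < m → bs (CohB1.tensorPow L n₀) ⊆ bs (CohB1.tensorPow L (m * n₀)) := by
    intro m hm
    by_contra hcon
    refine hmin ⟨m * n₀, Nat.mul_pos hm hn₀⟩ (lt_of_le_not_ge ?_ ?_)
    · exact bs_mul_subset' hL n₀ hm
    · exact fun h => hcon h
  have hall : ∀ m : ℕ, 0 < m → bs (CohB1.tensorPow L n₀) ⊆ bs (CohB1.tensorPow L m) := fun m hm =>
    (key m hm).trans (bs_mul_subset hL m hn₀)
  have h0 : sbs L = bs (CohB1.tensorPow L n₀) :=
    Set.Subset.antisymm (sbs_subset L hn₀) fun x hx m hm => hall m hm hx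
  refine ⟨n₀, hn₀, fun k hk => ?_⟩
  rw [h0]
  exact Set.Subset.antisymm (key k hk) (bs_mul_subset' hL n₀ hk)

theorem exists_powMul {L : X.Modules} (m n : ℕ) :
    Nonempty (CohB1.tensorPow (CohB1.tensorPow L m) n ≅ CohB1.tensorPow L (m * n)) :=
  ⟨Groth.Agent.Ega2.TensPow.powMul L m n⟩

theorem bs_iso {M N : X.Modules} (e : M ≅ N) : bs M = bs N := by
  ext x
  constructor
  · intro h s hs
    refine h (s ≫ e.inv) ?_
    rwa [Groth.Agent.Ega2.SecCalc.genLocus_comp]
  · intro h s hs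
    refine h (s ≫ e.hom) ?_
    rwa [Groth.Agent.Ega2.SecCalc.genLocus_comp]

theorem sbs_tensorPow [CompactSpace X] {L : X.Modules} (hL : PicF.IsInvertible L) {p : ℕ} (hp : 0 < p) :
    sbs (CohB1.tensorPow L p) = sbs L := by
  have h1 : ∀ m, bs (CohB1.tensorPow (CohB1.tensorPow L p) m) = bs (CohB1.tensorPow L (p * m)) := fun m =>
    bs_iso (exists_powMul p m).some
  apply Set.Subset.antisymm
  · intro x hx m hm
    refine bs_mul_subset' hL m hp ?_
    change x ∈ bs (CohB1.tensorPow L (p * m))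
    rw [← h1]
    exact hx m hm
  · intro x hx m hm
    change x ∈ bs (CohB1.tensorPow (CohB1.tensorPow L p) m)
    rw [h1]
    exact hx _ (Nat.mul_pos hp hm)

end K931.BaseLocus
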