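import Groth.Agent.PosLin.K931.NumGrowth

/-!
# Orders of growth
-/

set_option autoImplicit false

namespace K931.NumGrowth

open Finset

/-- `f = 0` if `d = 0`, `f = O(m^{d-1})` otherwise. -/
def IsO : ℕ → (ℕ → ℕ) → Prop
  | 0, f => ∀ m, f m = 0
  | d + 1, f => ∃ C : ℕ, ∀ m : ℕ, f m ≤ C * (m + 1) ^ d

theorem IsO.mono {d : ℕ} {f g : ℕ → ℕ} (hg : IsO d g) (h : ∀ m, f m ≤ g m) : IsO d f := by
  cases d with
  | zero => exact fun m => Nat.le_zero.mp ((h m).trans (hg m).le)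
  | succ d =>
    obtain ⟨C, hC⟩ := hg
    exact ⟨C, fun m => (h m).trans (hC m)⟩

theorem IsO.congr {d : ℕ} {f g : ℕ → ℕ} (hg : IsO d g) (h : ∀ m, f m = g m) : IsO d f :=
  hg.mono fun m => (h m).le

theorem IsO.zero (d : ℕ) : IsO d (fun _ => 0) := by
  cases d with
  | zero => exact fun _ => rfl
  | succ d => exact ⟨0, fun m => Nat.zero_le _⟩

theorem IsO.add {d : ℕ} {f g : ℕ → ℕ} (hf : IsO d f) (hg : IsO d g) : IsO d (fun m => f m + g m) := by
  cases d with
  | zero => exact fun m => by simp only [hf m, hg m]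
  | succ d =>
    obtain ⟨C, hC⟩ := hf
    obtain ⟨D, hD⟩ := hg
    exact ⟨C + D, fun m => by rw [add_mul]; exact add_le_add (hC m) (hD m)⟩

theorem IsO.sum {d : ℕ} {ι : Type*} (s : Finset ι) {f : ι → ℕ → ℕ} (hf : ∀ i ∈ s, IsO d (f i)) :
    IsO d (fun m => ∑ i ∈ s, f i m) := by
  classical
  induction s using Finset.induction_on with
  | empty => simpa using IsO.zero d
  | insert a s ha ih =>
    have h1 := (hf a (mem_insert_self a s)).add (ih fun i hi => hf i (mem_insert_of_mem hi))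
    exact h1.congr fun m => sum_insert ha

theorem IsO.succ {d : ℕ} {f : ℕ → ℕ} (hf : IsO d f) : IsO (d + 1) f := by
  cases d with
  | zero => exact ⟨0, fun m => by rw [hf m]; exact Nat.zero_le _⟩
  | succ d =>
    obtain ⟨C, hC⟩ := hf
    exact ⟨C, fun m => (hC m).trans (Nat.mul_le_mul_left _ (Nat.pow_le_pow_right (Nat.succ_pos m) (Nat.le_succ d)))⟩

theorem IsO.step {d m₀ : ℕ} (hm₀ : 0 < m₀) {a f : ℕ → ℕ} (hf : IsO d f) (h : ∀ m, a (m + m₀) ≤ a m + f m) :
    IsO (d + 1) a := by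
  cases d with
  | zero =>
    refine ⟨(range m₀).sup a, fun m => ?_⟩
    rw [pow_zero, mul_one]
    induction m using Nat.strong_induction_on with
    | _ m ih =>
      rcases lt_or_ge m m₀ with hm | hm
      · exact le_sup (f := a) (mem_range.mpr hm)
      · obtain ⟨j, rfl⟩ : ∃ j, m = j + m₀ := ⟨m - m₀, by omega⟩
        have h2 := h j
        rw [hf j, add_zero] at h2
        exact h2.trans (ih j (by omega))
  | succ d =>
    obtain ⟨C, hC⟩ := hf
    obtain ⟨C', hC'⟩ := bound_of_step' (a := a) (C := C) (e := d) hm₀ fun m => (h m).trans (Nat.add_le_add_left (hC m) _)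
    exact ⟨C', hC'⟩

/-- A bound valid from some point on. -/
theorem IsO.of_eventually {d : ℕ} {f g : ℕ → ℕ} (m₁ : ℕ) (hg : IsO (d + 1) g) (h : ∀ m, m₁ ≤ m → f m ≤ g m) :
    IsO (d + 1) f := by
  obtain ⟨C, hC⟩ := hg
  refine ⟨C + (range m₁).sup f, fun m => ?_⟩
  have h1 : 1 ≤ (m + 1) ^ d := Nat.one_le_pow _ _ (Nat.succ_pos m)
  rcases lt_or_ge m m₁ with hm | hm
  · calc f m ≤ (range m₁).sup f := le_sup (f := f) (mem_range.mpr hm)
      _ ≤ (C + (range m₁).sup f) * 1 := by omega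
      _ ≤ _ := Nat.mul_le_mul_left _ h1
  · exact ((h m hm).trans (hC m)).trans (Nat.mul_le_mul_right _ (Nat.le_add_right _ _))

end K931.NumGrowth
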