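import Groth.Agent.PosLin.K931.HQ
import Groth.Agent.PosLin.K931.IsO
import Groth.Agent.Vanish.K909.InterML

/-!
# Asymptotics of the Euler characteristic of powers
-/

set_option autoImplicit false
universe u
open CategoryTheory CategoryTheory.Limits AlgebraicGeometry TopologicalSpace

namespace K931.ChiAsym

open Groth.Agent Groth.Agent.Fga Groth.Agent.Fga.PicMon Groth.Agent.Grpsch.PicGrp K909.InterML K910.HZ
  K931.HQ K931.NumGrowth

variable (k : Type u) [Field k] (X : Scheme.{u}) [X.Over (Spec (CommRingCat.of k))] (D : ℕ)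
  {L : X.Modules} (hL : PicF.IsInvertible L) (F : X.Modules)

/-- The intersection number of `j` copies of `L` on `L^m ⊗ F`. -/
noncomputable def gg (j m : ℕ) : ℤ :=
  inter k X D (CohB1.tensorMod (CohB1.tensorPow L m) F) (fun _ : Fin j => mk L hL)

theorem gg_step (j m : ℕ) : gg k X D hL F j (m + 1) - gg k X D hL F j m = gg k X D hL F (j + 1) (m + 1) := by
  have e : (fun _ : Fin (j + 1) => mk L hL) = (Fin.cons (mk L hL) (fun _ : Fin j => mk L hL) : Fin (j + 1) → Pic X) := by
    funext i
    cases i using Fin.cases with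
    | zero => rfl
    | succ i => rfl
  unfold gg
  rw [e, inter_cons]
  change _ = Pic13.H970.IntForm.I k X D _
    (Fin.cons (mk (dual L) (isInvertible_dual hL)) (fun _ : Fin j => (mk L hL)⁻¹) : Fin (j + 1) → Pic X)
  rw [Pic13.H970.IntForm.I_cons_mk]
  change _ = inter k X D _ (fun _ : Fin j => mk L hL) - inter k X D _ (fun _ : Fin j => mk L hL)
  congr 1
  have h1 : mk L hL * mk (dual L) (isInvertible_dual hL) = 1 := by
    rw [← inv_mk hL, mul_inv_cancel]
  have h2 : mc L * mc (dual L) = 1 := by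
    have := congrArg (Pic13.H970.IntForm.toMC X) h1
    rwa [map_mul, map_one] at this
  obtain ⟨e'⟩ := (mc_eq_iff (CohB1.tensorMod (CohB1.tensorPow L m) F)
    (CohB1.tensorMod (dual L) (CohB1.tensorMod (CohB1.tensorPow L (m + 1)) F))).mp (by
      rw [mc_tensor, mc_tensor, mc_tensor, mc_tensorPow, mc_tensorPow, pow_succ', ← mul_assoc, ← mul_assoc,
        mul_comm (mc (dual L)), h2, one_mul])
  exact inter_iso k X D _ e' _

theorem gg_zero_right (j : ℕ) : gg k X D hL F j 0 = inter k X D F (fun _ : Fin j => mk L hL) := by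
  unfold gg
  obtain ⟨e'⟩ := (mc_eq_iff (CohB1.tensorMod (CohB1.tensorPow L 0) F) F).mp (by
      rw [mc_tensor, mc_tensorPow, pow_zero, one_mul])
  exact inter_iso k X D _ e' _

theorem gg_zero_left (m : ℕ) : gg k X D hL F 0 m =
    (Finset.range (D + 1)).sum fun i => (-1 : ℤ) ^ i * (HQ k X i (mc L ^ m * mc F) : ℤ) := by
  unfold gg
  rw [inter_zero]
  unfold FGA.eulerCharLE
  refine Finset.sum_congr rfl fun i _ => ?_
  rw [← mc_tensorPow, ← mc_tensor, HQ_mc, hh_def]

theorem support_twist {L : X.Modules} (hL : PicF.IsInvertible L) (F : X.Modules) (m : ℕ) :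
    CohB1.support (CohB1.tensorMod (CohB1.tensorPow L m) F) = CohB1.support F := by
  obtain ⟨M, hM, ⟨e⟩⟩ := exists_inverse hL
  refine PosMain.support_tensor X (Fdesc.LocGen.isInvertible_tensorPow hL m)
    (Fdesc.LocGen.isInvertible_tensorPow hM m) ?_ F
  rw [mc_tensorPow, mc_tensorPow, ← mul_pow]
  rw [← mc_tensor, mc_eq e, mc_one, one_pow]

variable [IsProper (X ↘ Spec (CommRingCat.of k))] (hD : topologicalKrullDim X ≤ D) {F} (hF : Coh.IsCoh F) {r : ℕ}
  (hr : topologicalKrullDim (CohB1.support F) ≤ r)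

include hD hF hr

theorem asym_aux (j : ℕ) (hj : j ≤ r) :
    Asym (inter k X D F (fun _ : Fin r => mk L hL)) (gg k X D hL F (r - j)) j := by
  induction j with
  | zero =>
    intro m
    rw [Nat.sub_zero]
    induction m with
    | zero => exact gg_zero_right k X D hL F r
    | succ m ih =>
      rw [← ih, ← sub_eq_zero, gg_step]
      unfold gg
      refine inter_eq_zero k X D hD _ (isCoh_tensor (Fdesc.LocGen.isInvertible_tensorPow hL _) hF) _ ?_
      rw [support_twist X hL F]
      exact lt_of_le_of_lt hr (by exact_mod_cast Nat.lt_succ_self r)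
  | succ j ih =>
    refine Asym.step (g := gg k X D hL F (r - j)) (fun m => ?_) (ih (by omega))
    have h1 : r - j = (r - (j + 1)) + 1 := by omega
    rw [h1]
    exact gg_step k X D hL F _ m

/-- `r! χ(L^m ⊗ F) = (L^r · F) m^r + O(m^{r-1})` for `dim Supp F ≤ r`. -/
theorem asym : Asym (inter k X D F (fun _ : Fin r => mk L hL))
    (fun m => (Finset.range (D + 1)).sum fun i => (-1 : ℤ) ^ i * (HQ k X i (mc L ^ m * mc F) : ℤ)) r := by
  have h := asym_aux k X D hL hD hF hr r le_rfl
  rw [Nat.sub_self] at h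
  have h2 : gg k X D hL F 0 = fun m => (Finset.range (D + 1)).sum fun i => (-1 : ℤ) ^ i * (HQ k X i (mc L ^ m * mc F) : ℤ) :=
    funext fun m => gg_zero_left k X D hL F m
  rwa [h2] at h

end K931.ChiAsym
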