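import Groth.Agent.Ega2.TensPow
import Groth.Agent.Ega2.WeightPull
import Groth.Agent.Ega43.DvrDomination

/-!
# Coefficients of sections of an invertible module at a point; dominating discrete valuations

* `cf hx he t`: the germ at `x` of the function `a` with `t = a • e`, `e` a generator over `U ∋ x`.
* `exists_val`: a Noetherian local domain which is not a field has a discrete valuation dominating it.
-/

set_option autoImplicit false
universe u v

open CategoryTheory CategoryTheory.Limits AlgebraicGeometry Opposite TopologicalSpace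

namespace K931.Coef

open Groth.Agent Groth.Agent.Fdesc.LocGen Groth.Agent.Ega2 Groth.Agent.Ega2.TensPow

variable {X : Scheme.{u}} {x : X} {U : X.Opens} (hx : x ∈ U)

/-- The coefficient at `x` of a global section with respect to a local generator. -/
noncomputable def cf {N : X.Modules} {e : Γ(N, U)} (he : IsGen e) (t : Γ(N, ⊤)) : X.presheaf.stalk x :=
  X.presheaf.germ U x hx (he.exists_eq (res N (le_top : U ≤ ⊤) t)).choose

theorem cf_eq {N : X.Modules} {e : Γ(N, U)} (he : IsGen e) {t : Γ(N, ⊤)} {a : Γ(X, U)}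
    (h : res N (le_top : U ≤ ⊤) t = a • e) : cf hx he t = X.presheaf.germ U x hx a := by
  have h1 := (he.exists_eq (res N (le_top : U ≤ ⊤) t)).choose_spec
  have h2 := he.ext (h1.symm.trans h)
  rw [cf, h2]

theorem exists_cf {N : X.Modules} {e : Γ(N, U)} (he : IsGen e) (t : Γ(N, ⊤)) :
    ∃ a : Γ(X, U), res N (le_top : U ≤ ⊤) t = a • e ∧ cf hx he t = X.presheaf.germ U x hx a := by
  obtain ⟨a, ha⟩ := he.exists_eq (res N (le_top : U ≤ ⊤) t)
  exact ⟨a, ha, cf_eq hx he ha⟩

theorem cf_add {N : X.Modules} {e : Γ(N, U)} (he : IsGen e) (s t : Γ(N, ⊤)) :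
    cf hx he (s + t) = cf hx he s + cf hx he t := by
  obtain ⟨a, ha, ha'⟩ := exists_cf hx he s
  obtain ⟨b, hb, hb'⟩ := exists_cf hx he t
  rw [ha', hb', ← map_add]
  refine cf_eq hx he ?_
  rw [map_add, ha, hb, add_smul]

theorem cf_zero {N : X.Modules} {e : Γ(N, U)} (he : IsGen e) : cf hx he (0 : Γ(N, ⊤)) = 0 := by
  rw [← map_zero (X.presheaf.germ U x hx).hom]
  refine cf_eq hx he ?_
  rw [map_zero, zero_smul]

theorem cf_tmul {N N' : X.Modules} {e : Γ(N, U)} (he : IsGen e) {e' : Γ(N', U)} (he' : IsGen e')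
    (s : Γ(N, ⊤)) (t : Γ(N', ⊤)) : cf hx (he.tmul he') (tmul s t) = cf hx he s * cf hx he' t := by
  obtain ⟨a, ha, ha'⟩ := exists_cf hx he s
  obtain ⟨b, hb, hb'⟩ := exists_cf hx he' t
  rw [ha', hb', ← map_mul]
  refine cf_eq hx _ ?_
  rw [res_tmul, ha, hb, smul_tmul, tmul_smul, smul_smul]

theorem cf_pow {N : X.Modules} {e : Γ(N, U)} (he : IsGen e) (s : Γ(N, ⊤)) (k : ℕ) :
    cf hx (he.pow k) (pow s k) = cf hx he s ^ k := by
  obtain ⟨a, ha, ha'⟩ := exists_cf hx he s
  rw [ha', ← map_pow]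
  refine cf_eq hx _ ?_
  rw [res_pow, ha, smul_pow]

theorem cf_map {N N' : X.Modules} {e : Γ(N, U)} (he : IsGen e) {e' : Γ(N', U)} (he' : IsGen e')
    (φ : N ⟶ N') {g : Γ(X, U)} (h : φ.app U e = g • e') (s : Γ(N, ⊤)) :
    cf hx he' (φ.app ⊤ s) = cf hx he s * X.presheaf.germ U x hx g := by
  obtain ⟨a, ha, ha'⟩ := exists_cf hx he s
  rw [ha', ← map_mul]
  refine cf_eq hx _ ?_
  rw [← app_res, ha, Scheme.Modules.Hom.app_smul, h, smul_smul]

theorem cf_iso {N N' : X.Modules} {e : Γ(N, U)} (he : IsGen e) {e' : Γ(N', U)} (he' : IsGen e')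
    (φ : N ⟶ N') (h : φ.app U e = e') (s : Γ(N, ⊤)) :
    cf hx he' (φ.app ⊤ s) = cf hx he s := by
  rw [cf_map hx he he' φ (g := 1) (by rw [one_smul, h]), map_one, mul_one]

/-- Independence of the generator, up to units. -/
theorem isUnit_cf_iff {N : X.Modules} {e : Γ(N, U)} (he : IsGen e) (t : Γ(N, ⊤)) :
    IsUnit (cf hx he t) ↔ x ∈ CohB1.genLocus N (homOf t) := by
  obtain ⟨a, ha, ha'⟩ := exists_cf hx he t
  have h1 := genLocus_inf_eq (homOf t) he ((sec_homOf t U).trans ha)
  rw [ha', ← X.mem_basicOpen _ _ hx, ← h1]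
  exact ⟨fun h => h.1, fun h => ⟨h, hx⟩⟩

/-- A discrete valuation dominating a Noetherian local domain. -/
theorem exists_val (A : Type u) [CommRing A] [IsDomain A] [IsLocalRing A] [IsNoetherianRing A]
    (hA : ¬ IsField A) : ∃ v : A → ℕ∞, (∀ a b, v (a * b) = v a + v b) ∧ (∀ a b, min (v a) (v b) ≤ v (a + b)) ∧
      (∀ a, v a = ⊤ ↔ a = 0) ∧ (∀ a, IsUnit a → v a = 0) ∧ ∀ a ∈ IsLocalRing.maximalIdeal A, 1 ≤ v a := by
  obtain ⟨W, hW, hmem, hnon⟩ := Ega43.DvrDomination.exists_dvr_dominating A hA (FractionRing A)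
    (IsFractionRing.injective A (FractionRing A))
  let j : A →+* W := (algebraMap A (FractionRing A)).codRestrict W.toSubring hmem
  have hj : Function.Injective j := fun a b h =>
    IsFractionRing.injective A (FractionRing A) (congrArg Subtype.val h)
  refine ⟨fun a => IsDiscreteValuationRing.addVal W (j a), fun a b => ?_, fun a b => ?_, fun a => ?_,
    fun a ha => ?_, fun a ha => ?_⟩
  · simp only [map_mul]; exact IsDiscreteValuationRing.addVal_mul
  · simp only [map_add]; exact IsDiscreteValuationRing.addVal_add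
  · rw [IsDiscreteValuationRing.addVal_eq_top_iff, map_eq_zero_iff j hj]
  · rw [IsDiscreteValuationRing.addVal_eq_zero_iff]
    exact ha.map j
  · rw [ENat.one_le_iff_ne_zero]
    intro h0
    rw [IsDiscreteValuationRing.addVal_eq_zero_iff] at h0
    have h1 := hnon a ha
    rw [ValuationSubring.mem_nonunits_iff_exists_mem_maximalIdeal] at h1
    obtain ⟨h2, h3⟩ := h1
    exact (IsLocalRing.mem_maximalIdeal _).mp h3 h0

end K931.Coef
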