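import Mathlib.Geometry.Convex.Cone.Basic
import Mathlib.Analysis.Convex.Topology
import Mathlib.Topology.Algebra.Module.ModuleTopology
import Mathlib.LinearAlgebra.Dimension.Finrank
import Mathlib.LinearAlgebra.FreeModule.Finite.Basic
import Mathlib.LinearAlgebra.Dimension.Free

/-!
# Cones generated by ample, effective and big classes: the convex geometry

`G` a commutative group of classes, `ν : G → E` additive with values in a real vector space.
-/

set_option autoImplicit false

open Set Topology

namespace K931.ConeAbs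

variable {G E : Type*} [CommGroup G] [AddCommGroup E] [Module ℝ E]

/-- The cone generated by the classes satisfying `P`. -/
noncomputable def cone (ν : G → E) (P : G → Prop) : ConvexCone ℝ E := ConvexCone.hull ℝ {x | ∃ c, P c ∧ x = ν c}

variable {ν : G → E} {P : G → Prop}

theorem mem_cone {c : G} (h : P c) : ν c ∈ cone ν P := ConvexCone.subset_hull ⟨c, h, rfl⟩

/-- Data for the ample, effective and big classes. -/
structure Data (ν : G → E) (Amp Eff Big : G → Prop) : Prop where
  map_mul : ∀ a b, ν (a * b) = ν a + ν b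
  exists_amp : ∃ h, Amp h
  eff_one : Eff 1
  amp_big : ∀ a, Amp a → Big a
  amp_mul_eff : ∀ a e, Amp a → Eff e → ∀ q : ℕ, Big (a * e ^ q)
  amp_eff : ∀ a, Amp a → ∃ n : ℕ, 0 < n ∧ Eff (a ^ n)
  big_iff : ∀ c h, Big c → Amp h → ∃ m : ℕ, 0 < m ∧ Eff (c ^ m / h)
  amp_absorb : ∀ a c, Amp a → ∃ n : ℕ, 0 < n ∧ Amp (a ^ n * c)

namespace Data

variable {Amp Eff Big : G → Prop} (D : Data ν Amp Eff Big)
include D

theorem map_one : ν 1 = 0 := by
  have := D.map_mul 1 1
  rw [one_mul] at this
  exact left_eq_add.mp this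

theorem map_inv (a : G) : ν a⁻¹ = -ν a := by
  have := D.map_mul a⁻¹ a
  rw [inv_mul_cancel, D.map_one] at this
  exact eq_neg_of_add_eq_zero_left this.symm

theorem map_div (a b : G) : ν (a / b) = ν a - ν b := by
  rw [div_eq_mul_inv, D.map_mul, D.map_inv, sub_eq_add_neg]

theorem map_pow (a : G) (n : ℕ) : ν (a ^ n) = (n : ℝ) • ν a := by
  induction n with
  | zero => rw [pow_zero, D.map_one]; simp
  | succ n ih => rw [pow_succ, D.map_mul, ih]; push_cast; rw [add_smul, one_smul]

theorem big_mem {c : G} (hc : Big c) : ν c ∈ cone ν Amp + cone ν Eff := by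
  obtain ⟨h, hh⟩ := D.exists_amp
  obtain ⟨m, hm, he⟩ := D.big_iff c h hc hh
  have hm' : (0 : ℝ) < m := by exact_mod_cast hm
  refine ⟨(m : ℝ)⁻¹ • ν h, (cone ν Amp).smul_mem (by positivity) (mem_cone hh),
    (m : ℝ)⁻¹ • ν (c ^ m / h), (cone ν Eff).smul_mem (by positivity) (mem_cone he), ?_⟩
  beta_reduce
  rw [D.map_div, D.map_pow, ← smul_add, add_sub_cancel, smul_smul, inv_mul_cancel₀ hm'.ne', one_smul]

theorem add_mem_big {a : E} (ha : a ∈ cone ν Amp) {e : E} (he : e ∈ cone ν Eff) : a + e ∈ cone ν Big := by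
  -- first the case of a generator of the effective cone
  have key : ∀ f : G, Eff f → ∀ a ∈ cone ν Amp, ∀ t : ℝ, 0 ≤ t → a + t • ν f ∈ cone ν Big := by
    intro f hf
    let C : ConvexCone ℝ E :=
      { carrier := {a | ∀ t : ℝ, 0 ≤ t → a + t • ν f ∈ cone ν Big}
        smul_mem' := by
          intro s hs a ha t ht
          have := (cone ν Big).smul_mem hs (ha (t / s) (by positivity))
          rw [smul_add, smul_smul, mul_div_cancel₀ _ hs.ne'] at this
          exact this
        add_mem' := by
          intro a ha b hb t ht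
          have := (cone ν Big).add_mem (ha 0 le_rfl) (hb t ht)
          rw [zero_smul, add_zero, ← add_assoc] at this
          exact this }
    have hC : cone ν Amp ≤ C := by
      refine ConvexCone.hull_min ?_
      rintro _ ⟨b, hb, rfl⟩ t ht
      obtain ⟨q, hq⟩ := exists_nat_gt t
      have hq0 : (0 : ℝ) < q := lt_of_le_of_lt ht hq
      rcases ht.eq_or_lt with rfl | ht0
      · rw [zero_smul, add_zero]; exact mem_cone (D.amp_big b hb)
      have h1 : (1 - t / q) • ν b ∈ cone ν Big :=
        (cone ν Big).smul_mem (by rw [sub_pos, div_lt_one hq0]; exact hq) (mem_cone (D.amp_big b hb))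
      have h2 : (t / q) • ν (b * f ^ q) ∈ cone ν Big :=
        (cone ν Big).smul_mem (by positivity) (mem_cone (D.amp_mul_eff b f hb hf q))
      have h3 := (cone ν Big).add_mem h1 h2
      have h4 : (1 - t / q) • ν b + (t / q) • ν (b * f ^ q) = ν b + t • ν f := by
        rw [D.map_mul, D.map_pow, smul_add, ← add_assoc, ← add_smul, sub_add_cancel, one_smul, smul_smul,
          div_mul_cancel₀ _ hq0.ne']
      rwa [h4] at h3
    intro a ha
    exact hC ha
  let C : ConvexCone ℝ E :=
    { carrier := {e | ∀ a ∈ cone ν Amp, a + e ∈ cone ν Big}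
      smul_mem' := by
        intro s hs e he a ha
        have := (cone ν Big).smul_mem hs (he (s⁻¹ • a) ((cone ν Amp).smul_mem (by positivity) ha))
        rw [smul_add, smul_smul, mul_inv_cancel₀ hs.ne', one_smul] at this
        exact this
      add_mem' := by
        intro e he f hf a ha
        have h1 := he ((2 : ℝ)⁻¹ • a) ((cone ν Amp).smul_mem (by positivity) ha)
        have h2 := hf ((2 : ℝ)⁻¹ • a) ((cone ν Amp).smul_mem (by positivity) ha)
        have h3 := (cone ν Big).add_mem h1 h2
        have h4 : (2 : ℝ)⁻¹ • a + e + ((2 : ℝ)⁻¹ • a + f) = a + (e + f) := by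
          rw [add_add_add_comm, ← add_smul]; norm_num
        rwa [h4] at h3 }
  have hC : cone ν Eff ≤ C := by
    refine ConvexCone.hull_min ?_
    rintro _ ⟨f, hf, rfl⟩ a ha
    have := key f hf a ha 1 zero_le_one
    rwa [one_smul] at this
  exact hC he a ha

/-- The big cone is the sum of the ample and the effective cone. -/
theorem cone_big : cone ν Big = cone ν Amp + cone ν Eff := by
  refine le_antisymm (ConvexCone.hull_min ?_) ?_
  · rintro _ ⟨c, hc, rfl⟩
    exact D.big_mem hc
  · rintro _ ⟨a, ha, e, he, rfl⟩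
    exact D.add_mem_big ha he

theorem mem_big_iff (x : E) : x ∈ cone ν Big ↔ ∃ a ∈ cone ν Amp, x - a ∈ cone ν Eff := by
  rw [D.cone_big, ConvexCone.mem_add]
  constructor
  · rintro ⟨a, ha, e, he, rfl⟩
    exact ⟨a, ha, by rwa [add_sub_cancel_left]⟩
  · rintro ⟨a, ha, h⟩
    exact ⟨a, ha, _, h, add_sub_cancel a x⟩

theorem amp_le_eff : cone ν Amp ≤ cone ν Eff := by
  refine ConvexCone.hull_min ?_
  rintro _ ⟨a, ha, rfl⟩
  obtain ⟨n, hn, h⟩ := D.amp_eff a ha
  have hn' : (0 : ℝ) < n := by exact_mod_cast hn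
  have := (cone ν Eff).smul_mem (c := (n : ℝ)⁻¹) (by positivity) (mem_cone h)
  rw [D.map_pow, smul_smul, inv_mul_cancel₀ hn'.ne', one_smul] at this
  exact this

theorem big_le_eff : cone ν Big ≤ cone ν Eff := by
  rw [D.cone_big]
  rintro _ ⟨a, ha, e, he, rfl⟩
  exact (cone ν Eff).add_mem (D.amp_le_eff ha) he

/-- Every point of the ample cone is in its algebraic interior. -/
theorem amp_algInt (hspan : Submodule.span ℝ (Set.range ν) = ⊤) (v : E) :
    ∀ a ∈ cone ν Amp, ∃ ε : ℝ, 0 < ε ∧ ∀ t : ℝ, |t| ≤ ε → a + t • v ∈ cone ν Amp := by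
  have hv : v ∈ Submodule.span ℝ (Set.range ν) := by rw [hspan]; trivial
  induction hv using Submodule.span_induction with
  | mem v hv =>
    obtain ⟨c, rfl⟩ := hv
    let C : ConvexCone ℝ E :=
      { carrier := {a | ∃ ε : ℝ, 0 < ε ∧ ∀ t : ℝ, |t| ≤ ε → a + t • ν c ∈ cone ν Amp}
        smul_mem' := by
          rintro s hs a ⟨ε, hε, h⟩
          refine ⟨s * ε, by positivity, fun t ht => ?_⟩
          have := (cone ν Amp).smul_mem hs (h (t / s) (by
            rw [abs_div, abs_of_pos hs, div_le_iff₀ hs, mul_comm]; exact ht))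
          rw [smul_add, smul_smul, mul_div_cancel₀ _ hs.ne'] at this
          exact this
        add_mem' := by
          rintro a ⟨ε, hε, h⟩ b ⟨δ, hδ, h'⟩
          refine ⟨δ, hδ, fun t ht => ?_⟩
          have := (cone ν Amp).add_mem (h 0 (by rw [abs_zero]; exact hε.le)) (h' t ht)
          rw [zero_smul, add_zero, ← add_assoc] at this
          exact this }
    have hC : cone ν Amp ≤ C := by
      refine ConvexCone.hull_min ?_
      rintro _ ⟨b, hb, rfl⟩
      obtain ⟨n, hn, h1⟩ := D.amp_absorb b c hb
      obtain ⟨m, hm, h2⟩ := D.amp_absorb b c⁻¹ hb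
      have hn' : (0 : ℝ) < n := by exact_mod_cast hn
      have hm' : (0 : ℝ) < m := by exact_mod_cast hm
      -- `ν b + t ν c` for `0 ≤ t < 1 / n`
      have hpos : ∀ (k : ℕ) (_ : 0 < k) (c' : G), Amp (b ^ k * c') → ∀ t : ℝ, 0 ≤ t → t * k ≤ 1 / 2 →
          ν b + t • ν c' ∈ cone ν Amp := by
        intro k hk c' hA t ht ht2
        have hk' : (0 : ℝ) < k := by exact_mod_cast hk
        rcases ht.eq_or_lt with rfl | ht0
        · rw [zero_smul, add_zero]; exact mem_cone hb
        have h3 := (cone ν Amp).smul_mem ht0 (mem_cone hA)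
        rw [D.map_mul, D.map_pow, smul_add, smul_smul] at h3
        have h4 : (1 - t * k) • ν b ∈ cone ν Amp :=
          (cone ν Amp).smul_mem (by linarith) (mem_cone hb)
        have h5 := (cone ν Amp).add_mem h4 h3
        rwa [← add_assoc, ← add_smul, sub_add_cancel, one_smul] at h5
      refine ⟨min (1 / (2 * n)) (1 / (2 * m)), by positivity, fun t ht => ?_⟩
      rcases le_total 0 t with h0 | h0
      · refine hpos n hn c h1 t h0 ?_
        rw [abs_of_nonneg h0] at ht
        have h6 := ht.trans (min_le_left _ _)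
        rw [le_div_iff₀ (by positivity)] at h6
        linarith
      · have h7 := hpos m hm c⁻¹ h2 (-t) (by linarith) (by
          rw [abs_of_nonpos h0] at ht
          have h6 := ht.trans (min_le_right _ _)
          rw [le_div_iff₀ (by positivity)] at h6
          linarith)
        rwa [D.map_inv, smul_neg, neg_smul, neg_neg] at h7
    intro a ha
    exact hC ha
  | zero =>
    intro a ha
    exact ⟨1, one_pos, fun t _ => by rwa [smul_zero, add_zero]⟩
  | add v w _ _ hv hw =>
    intro a ha
    have ha2 := (cone ν Amp).smul_mem (c := (2 : ℝ)⁻¹) (by positivity) ha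
    obtain ⟨ε, hε, h1⟩ := hv _ ha2
    obtain ⟨δ, hδ, h2⟩ := hw _ ha2
    refine ⟨min ε δ, lt_min hε hδ, fun t ht => ?_⟩
    have := (cone ν Amp).add_mem (h1 t (ht.trans (min_le_left _ _))) (h2 t (ht.trans (min_le_right _ _)))
    rwa [add_add_add_comm, ← add_smul, ← smul_add, show (2 : ℝ)⁻¹ + 2⁻¹ = 1 by norm_num, one_smul] at this
  | smul s v _ hv =>
    intro a ha
    obtain ⟨ε, hε, h1⟩ := hv a ha
    refine ⟨ε / (|s| + 1), by positivity, fun t ht => ?_⟩
    rw [smul_smul]
    refine h1 _ ?_
    rw [abs_mul]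
    calc |t| * |s| ≤ ε / (|s| + 1) * (|s| + 1) := by gcongr; linarith
      _ = ε := by field_simp

variable [TopologicalSpace E] [IsModuleTopology ℝ E] [Module.Finite ℝ E]

/-- The ample cone is open. -/
theorem isOpen_amp (hspan : Submodule.span ℝ (Set.range ν) = ⊤) : IsOpen (cone ν Amp : Set E) := by
  have : ContinuousAdd E := IsModuleTopology.toContinuousAdd ℝ E
  rw [isOpen_iff_mem_nhds]
  intro a ha
  let b := Module.finBasis ℝ E
  let n := Module.finrank ℝ E
  set a' : E := ((n : ℝ) + 1)⁻¹ • a with ha'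
  have hn : (0 : ℝ) < (n : ℝ) + 1 := by positivity
  have hmem : a' ∈ cone ν Amp := (cone ν Amp).smul_mem (by positivity) ha
  choose ε hε h using fun i => D.amp_algInt hspan (b i) a' hmem
  have hcont : ∀ i, Continuous fun x : E => b.coord i (x - a) := fun i =>
    (IsModuleTopology.continuous_of_linearMap (b.coord i)).comp (by
      have : IsTopologicalAddGroup E := IsModuleTopology.topologicalAddGroup ℝ E
      fun_prop)
  have hU : {x : E | ∀ i, |b.coord i (x - a)| < ε i} ∈ 𝓝 a := by
    refine IsOpen.mem_nhds ?_ ?_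
    · have : {x : E | ∀ i, |b.coord i (x - a)| < ε i} = ⋂ i, {x : E | |b.coord i (x - a)| < ε i} := by
        ext x; simp
      rw [this]
      exact isOpen_iInter_of_finite fun i => isOpen_lt (continuous_abs.comp (hcont i)) continuous_const
    · intro i
      rw [sub_self, _root_.map_zero, abs_zero]
      exact hε i
  refine Filter.mem_of_superset hU fun x hx => ?_
  have hsum : x = a' + ∑ i, (a' + b.coord i (x - a) • b i) := by
    have h1 : ∑ i, b.coord i (x - a) • b i = x - a := b.sum_repr (x - a)
    rw [Finset.sum_add_distrib, h1, Finset.sum_const, Finset.card_univ, Fintype.card_fin, ← add_assoc,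
      ← Nat.cast_smul_eq_nsmul ℝ, ha', smul_smul, ← add_smul]
    have h2 : ((n : ℝ) + 1)⁻¹ + (n : ℝ) * ((n : ℝ) + 1)⁻¹ = 1 := by field_simp; ring
    rw [h2, one_smul, add_sub_cancel]
  rw [hsum]
  have hfin : ∀ s : Finset (Fin n), a' + ∑ i ∈ s, (a' + b.coord i (x - a) • b i) ∈ cone ν Amp := by
    intro s
    induction s using Finset.induction_on with
    | empty => rw [Finset.sum_empty, add_zero]; exact hmem
    | insert i s hi ih =>
      rw [Finset.sum_insert hi, add_left_comm]
      exact (cone ν Amp).add_mem (h i _ (hx i).le) ih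
  exact hfin Finset.univ

theorem isOpen_big (hspan : Submodule.span ℝ (Set.range ν) = ⊤) : IsOpen (cone ν Big : Set E) := by
  have : IsTopologicalAddGroup E := IsModuleTopology.topologicalAddGroup ℝ E
  rw [D.cone_big, ConvexCone.coe_add]
  exact (D.isOpen_amp hspan).add_right

theorem closure_big : closure (cone ν Big : Set E) = closure (cone ν Eff : Set E) := by
  have : IsTopologicalAddGroup E := IsModuleTopology.topologicalAddGroup ℝ E
  refine Set.Subset.antisymm (closure_mono D.big_le_eff) (closure_minimal ?_ isClosed_closure)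
  intro e he
  obtain ⟨h, hh⟩ := D.exists_amp
  have hlim : Filter.Tendsto (fun t : ℝ => t • ν h + e) (𝓝[>] 0) (𝓝 e) := by
    have : Continuous fun t : ℝ => t • ν h + e := by fun_prop
    have h2 := this.tendsto 0
    rw [zero_smul, zero_add] at h2
    exact h2.mono_left nhdsWithin_le_nhds
  refine mem_closure_of_tendsto hlim ?_
  filter_upwards [self_mem_nhdsWithin] with t ht
  exact D.add_mem_big ((cone ν Amp).smul_mem ht (mem_cone hh)) he

theorem big_eq_interior (hspan : Submodule.span ℝ (Set.range ν) = ⊤) :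
    (cone ν Big : Set E) = interior (closure (cone ν Eff : Set E)) := by
  have : IsTopologicalAddGroup E := IsModuleTopology.topologicalAddGroup ℝ E
  have hne : (cone ν Big : Set E).Nonempty := by
    obtain ⟨h, hh⟩ := D.exists_amp
    exact ⟨_, mem_cone (D.amp_big h hh)⟩
  have ho := D.isOpen_big hspan
  rw [← D.closure_big, (cone ν Big).convex.interior_closure_eq_interior_of_nonempty_interior (by
    rw [ho.interior_eq]; exact hne), ho.interior_eq]

end Data

end K931.ConeAbs
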