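import Groth.Agent.PosLin.K931.Eff
import Groth.Agent.PosLin.K931.ConeAbs
import Groth.Prelude.Def_NumR

/-!
# The cones of ample, effective and big classes in `N¹(X)_ℝ`
-/

set_option autoImplicit false
universe u

open CategoryTheory CategoryTheory.Limits AlgebraicGeometry Opposite TopologicalSpace

namespace K931.Cones

open Groth.Agent Groth.Agent.Fdesc.LocGen Groth.Agent.Grpsch.PicGrp K931.Eff K931.ConeAbs

variable (k : Type u) [Field k] (X : Scheme.{u}) [X.Over (Spec (CommRingCat.of k))] [PicGrp.Law X]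

/-- The class in `N¹(X)_ℝ` of a class in the Picard group. -/
noncomputable def nu (c : Pic X) : NumR.N1R k X := NumR.clR k X (rep c) (rep_inv c)

variable {X}

theorem clR_congr {L M : X.Modules} (hL : PicF.IsInvertible L) (hM : PicF.IsInvertible M) (e : L ≅ M) :
    NumR.clR k X L hL = NumR.clR k X M hM := by
  rw [NumR.clR_def, NumR.clR_def, ← NumR.toN1_ofMul_cls, ← NumR.toN1_ofMul_cls]
  rw [(PicGrp.cls_eq_cls_iff hL hM).mpr ⟨e⟩]

theorem nu_mk {L : X.Modules} (hL : PicF.IsInvertible L) : nu k X (mk L hL) = NumR.clR k X L hL := by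
  obtain ⟨e⟩ := (mk_eq_iff (rep_inv _) hL).mp (mk_rep (mk L hL))
  exact clR_congr k _ _ e

theorem nu_mul (a b : Pic X) : nu k X (a * b) = nu k X a + nu k X b := by
  induction a using ind with | _ L hL => ?_
  induction b using ind with | _ M hM => ?_
  rw [mk_mul_mk, nu_mk, nu_mk, nu_mk, NumR.clR_def, NumR.clR_def, NumR.clR_def, ← map_add,
    ← NumR.toN1_ofMul_cls, ← NumR.toN1_ofMul_cls, ← NumR.toN1_ofMul_cls, ← map_add, ← ofMul_mul]
  congr 3
  apply Subtype.ext
  rw [PicGrp.cls_mul_cls_val]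
  rfl

/-- The cone generated by an isomorphism invariant predicate. -/
theorem coneOf_eq (P : X.Modules → Prop) (Q : Pic X → Prop)
    (h : ∀ (L : X.Modules) (hL : PicF.IsInvertible L), Q (mk L hL) ↔ P L) :
    NumR.coneOf k X P = cone (nu k X) Q := by
  unfold NumR.coneOf cone
  congr 1
  ext x
  constructor
  · rintro ⟨L, hL, hP, rfl⟩
    exact ⟨mk L hL, (h L hL).mpr hP, (nu_mk k hL).symm⟩
  · rintro ⟨c, hc, rfl⟩
    induction c using ind with | _ L hL => ?_
    exact ⟨L, hL, (h L hL).mp hc, nu_mk k hL⟩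

theorem ampleCone_eq : NumR.ampleCone k X = cone (nu k X) Amp :=
  coneOf_eq k _ _ fun _ hL => amp_mk hL

theorem effCone_eq : NumR.effCone k X = cone (nu k X) Eff :=
  coneOf_eq k _ _ fun _ hL => eff_mk hL

theorem bigCone_eq [AlgebraicGeometry.IsIntegral X] :
    NumR.coneOf k X (fun L : X.Modules => ∀ A : X.Modules, CohB1.IsAmple A →
      ∃ (m : ℕ) (φ : A ⟶ CohB1.tensorPow L m), 0 < m ∧ Mono φ) = cone (nu k X) Big :=
  coneOf_eq k _ _ fun _ hL => big_mk_iff hL

theorem data [AlgebraicGeometry.IsIntegral X] [CompactSpace X] [X.IsSeparated] {H : X.Modules}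
    (hH : CohB1.IsAmple H) : Data (nu k X) Amp Eff Big where
  map_mul := nu_mul k
  exists_amp := ⟨mk H hH.1, (amp_mk _).mpr hH⟩
  eff_one := eff_one
  amp_big := fun _ ha => ha.big
  amp_mul_eff := fun _ _ ha he q => ha.big.mul_eff ha (he.pow q)
  amp_eff := fun a ha => by
    obtain ⟨n, h0, h⟩ := ha.eventually_eff 1
    exact ⟨n, h0, by simpa using h n le_rfl⟩
  big_iff := fun c h hc hh => hc h hh
  amp_absorb := fun a c ha => by
    obtain ⟨n, h0, h⟩ := ha.eventually c
    exact ⟨n, h0, h n le_rfl⟩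

theorem span_nu : Submodule.span ℝ (Set.range (nu k X)) = ⊤ := by
  rw [← NumR.span_clR (k := k) (X := X)]
  congr 1
  ext x
  constructor
  · rintro ⟨c, rfl⟩
    exact ⟨rep c, rep_inv c, rfl⟩
  · rintro ⟨L, hL, rfl⟩
    exact ⟨mk L hL, nu_mk k hL⟩

end K931.Cones
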