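import Groth.Agent.Vanish.K910.HZ
import Groth.Agent.Pic13.H946.CoreDev

/-!
# Dimensions of cohomology groups, on isomorphism classes

`HQ k X p c = dim_k H^p(X, F)` for `c = mc F`; inequalities from short exact sequences.
-/

set_option autoImplicit false
universe u
open CategoryTheory CategoryTheory.Limits AlgebraicGeometry TopologicalSpace

namespace K931.HQ

open Groth.Agent Groth.Agent.Fga Groth.Agent.Fga.PicMon Groth.Agent.Fga.RegSec
  Groth.Agent.VarietyA.EulerLES K910.HZ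

variable (k : Type u) [Field k] (X : Scheme.{u}) [X.Over (Spec (CommRingCat.of k))]

/-- `dim_k H^p` of a module. -/
noncomputable def hh (p : ℕ) (F : X.Modules) : ℕ := Module.finrank k (Coh.HH X F p)

theorem hh_def (p : ℕ) (F : X.Modules) : hh k X p F = Module.finrank k (Coh.HH X F p) := rfl

theorem hh_iso (p : ℕ) {F G : X.Modules} (e : F ≅ G) : hh k X p F = hh k X p G :=
  (hmapEquiv k X e p).finrank_eq

/-- `dim_k H^p` on isomorphism classes. -/
noncomputable def HQ (p : ℕ) (c : MC X) : ℕ :=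
  Quot.lift (fun F : X.Modules => hh k X p F) (fun _ _ ⟨e⟩ => hh_iso k X p e) c

theorem HQ_mc (p : ℕ) (F : X.Modules) : HQ k X p (mc F) = hh k X p F := rfl

theorem HZ_eq (c : MC X) : HZ k X c = HQ k X 0 c := by
  induction c using MC.ind with | _ F => rfl

variable {X} [IsProper (X ↘ Spec (CommRingCat.of k))]

theorem hh_mid (S : ShortComplex X.Modules) (hS : S.ShortExact) (h1 : Coh.IsCoh S.X₁)
    (h2 : Coh.IsCoh S.X₂) (h3 : Coh.IsCoh S.X₃) (p : ℕ) :
    hh k X p S.X₂ ≤ hh k X p S.X₁ + hh k X p S.X₃ := by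
  have f1 : Module.Finite k (Coh.HH X S.X₁ p) := HodgeSec.finite_HH' k h1 p
  have f2 : Module.Finite k (Coh.HH X S.X₂ p) := HodgeSec.finite_HH' k h2 p
  have f3 : Module.Finite k (Coh.HH X S.X₃ p) := HodgeSec.finite_HH' k h3 p
  exact finrank_le_of_exact _ _ (exactA₂ k S hS p)

theorem hh_left (S : ShortComplex X.Modules) (hS : S.ShortExact) (h1 : Coh.IsCoh S.X₁)
    (h2 : Coh.IsCoh S.X₂) (h3 : Coh.IsCoh S.X₃) (p : ℕ) :
    hh k X (p + 1) S.X₁ ≤ hh k X p S.X₃ + hh k X (p + 1) S.X₂ := by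
  have f1 : Module.Finite k (Coh.HH X S.X₁ (p + 1)) := HodgeSec.finite_HH' k h1 (p + 1)
  have f2 : Module.Finite k (Coh.HH X S.X₂ (p + 1)) := HodgeSec.finite_HH' k h2 (p + 1)
  have f3 : Module.Finite k (Coh.HH X S.X₃ p) := HodgeSec.finite_HH' k h3 p
  exact finrank_le_of_exact _ _ (exactA₁ k S hS p (p + 1) rfl)

variable {k}

theorem shortExact_twist {L : X.Modules} (hL : PicF.IsInvertible L) (S : ShortComplex X.Modules)
    (hS : S.ShortExact) : ∃ T : ShortComplex X.Modules, T.ShortExact ∧ T.X₁ = CohB1.tensorMod L S.X₁ ∧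
      T.X₂ = CohB1.tensorMod L S.X₂ ∧ T.X₃ = CohB1.tensorMod L S.X₃ :=
  ⟨_, TwistCoh.shortExact_tensorBi hL S hS, rfl, rfl, rfl⟩

variable (k)

theorem HQ_mid (S : ShortComplex X.Modules) (hS : S.ShortExact) (h1 : Coh.IsCoh S.X₁)
    (h2 : Coh.IsCoh S.X₂) (h3 : Coh.IsCoh S.X₃) {c : MC X} (hc : Inv c) (p : ℕ) :
    HQ k X p (c * mc S.X₂) ≤ HQ k X p (c * mc S.X₁) + HQ k X p (c * mc S.X₃) := by
  obtain ⟨L, hL, rfl⟩ := hc
  obtain ⟨T, hT, e1, e2, e3⟩ := shortExact_twist hL S hS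
  rw [← mc_tensor, ← mc_tensor, ← mc_tensor, HQ_mc, HQ_mc, HQ_mc, ← e1, ← e2, ← e3]
  exact hh_mid k T hT (e1 ▸ isCoh_tensor hL h1) (e2 ▸ isCoh_tensor hL h2) (e3 ▸ isCoh_tensor hL h3) p

theorem HQ_left (S : ShortComplex X.Modules) (hS : S.ShortExact) (h1 : Coh.IsCoh S.X₁)
    (h2 : Coh.IsCoh S.X₂) (h3 : Coh.IsCoh S.X₃) {c : MC X} (hc : Inv c) (p : ℕ) :
    HQ k X (p + 1) (c * mc S.X₁) ≤ HQ k X p (c * mc S.X₃) + HQ k X (p + 1) (c * mc S.X₂) := by
  obtain ⟨L, hL, rfl⟩ := hc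
  obtain ⟨T, hT, e1, e2, e3⟩ := shortExact_twist hL S hS
  rw [← mc_tensor, ← mc_tensor, ← mc_tensor, HQ_mc, HQ_mc, HQ_mc, ← e1, ← e2, ← e3]
  exact hh_left k T hT (e1 ▸ isCoh_tensor hL h1) (e2 ▸ isCoh_tensor hL h2) (e3 ▸ isCoh_tensor hL h3) p

/-- Vanishing above the dimension of the support. -/
theorem hh_eq_zero {F : X.Modules} (hF : Coh.IsCoh F) (d : ℕ)
    (hd : topologicalKrullDim (CohB1.support F) ≤ (d : ℕ)) (p : ℕ) (hp : d < p) : hh k X p F = 0 := by
  have := HodgeSec.subsingleton_HH_of_support k hF d hd p hp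
  exact Module.finrank_zero_of_subsingleton

section mulS

variable {N F : X.Modules} (hN : PicF.IsInvertible N) (hF : Coh.IsCoh F)
  (s : Coh.structureModule X ⟶ N) (hmono : Mono (mulS s F))

include hN hF hmono

omit hmono in
include k in
theorem isCoh_coker : Coh.IsCoh (cokernel (mulS s F)) := by
  have := IntAdd.isNoetherian k X
  exact Sga67.CohBasic.isCoh_cokernel _ hF.1 (isCoh_tensor hN hF)

theorem HQ_mid_mulS {c : MC X} (hc : Inv c) (p : ℕ) :
    HQ k X p (c * mc N * mc F) ≤ HQ k X p (c * mc F) + HQ k X p (c * mc (cokernel (mulS s F))) := by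
  have h := HQ_mid k _ (shortExact_mulS s hmono) hF (isCoh_tensor hN hF) (isCoh_coker k hN hF s) hc p
  rw [mul_assoc]
  exact h

theorem HQ_left_mulS {c : MC X} (hc : Inv c) (p : ℕ) :
    HQ k X (p + 1) (c * mc F) ≤ HQ k X p (c * mc (cokernel (mulS s F))) + HQ k X (p + 1) (c * mc N * mc F) := by
  have h := HQ_left k _ (shortExact_mulS s hmono) hF (isCoh_tensor hN hF) (isCoh_coker k hN hF s) hc p
  rw [mul_assoc]
  exact h

theorem HQ_mid_mulS_pow {c : MC X} (hc : Inv c) (p q : ℕ) :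
    HQ k X p (c * mc N ^ q * mc F) ≤ HQ k X p (c * mc F) +
      ∑ t ∈ Finset.range q, HQ k X p (c * mc N ^ t * mc (cokernel (mulS s F))) := by
  induction q with
  | zero => rw [pow_zero, mul_one, Finset.sum_range_zero, add_zero]
  | succ q ih =>
    have h1 := HQ_mid_mulS k hN hF s hmono (hc.mul ((inv_mc hN).pow q)) p
    rw [mul_assoc c, ← pow_succ] at h1
    rw [Finset.sum_range_succ]
    omega

theorem HQ_left_mulS_pow {c : MC X} (hc : Inv c) (p q : ℕ) :
    HQ k X (p + 1) (c * mc F) ≤ HQ k X (p + 1) (c * mc N ^ q * mc F) +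
      ∑ t ∈ Finset.range q, HQ k X p (c * mc N ^ t * mc (cokernel (mulS s F))) := by
  induction q with
  | zero => rw [pow_zero, mul_one, Finset.sum_range_zero, add_zero]
  | succ q ih =>
    have h1 := HQ_left_mulS k hN hF s hmono (hc.mul ((inv_mc hN).pow q)) p
    rw [mul_assoc c (mc N ^ q) (mc N), ← pow_succ] at h1
    rw [Finset.sum_range_succ]
    omega

end mulS

omit [IsProper (X ↘ Spec (CommRingCat.of k))] in
/-- Projection formula for a closed immersion. -/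
theorem HQ_push {Z : Scheme.{u}} [Z.Over (Spec (CommRingCat.of k))] (i : Z ⟶ X) [IsClosedImmersion i]
    (hi : i ≫ (X ↘ Spec (CommRingCat.of k)) = Z ↘ Spec (CommRingCat.of k)) {L : X.Modules}
    (hL : PicF.IsInvertible L) (G : Z.Modules) (p m : ℕ) :
    HQ k X p (mc L ^ m * mc ((Coh.push i).obj G)) = HQ k Z p (mc ((Scheme.Modules.pullback i).obj L) ^ m * mc G) := by
  rw [mul_comm, mul_comm (mc ((Scheme.Modules.pullback i).obj L) ^ m), ← mc_tensorPow, ← mc_tensorPow,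
    ← mc_tensor, ← mc_tensor, HQ_mc, HQ_mc]
  obtain ⟨e⟩ := Pic13.H946.CoreDev.exists_equiv k i hi (Fdesc.LocGen.isInvertible_tensorPow hL m)
    (W' := CohB1.tensorPow ((Scheme.Modules.pullback i).obj L) m) (Ega3B.PullTensor.nonempty_pullPowIso i hL m) G p
  exact e.finrank_eq

end K931.HQ
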