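import Groth.Agent.CohqB.SerTw
import Groth.Agent.CohqA.H1Lift
import Groth.Agent.CohqB.FinAmple
import Groth.Agent.Fga.HShift

/-!
# Surjectivity of multiplication maps of sections
-/

set_option autoImplicit false
universe u

open CategoryTheory CategoryTheory.Limits AlgebraicGeometry Opposite TopologicalSpace

attribute [local instance] Abelian.hasFiniteBiproducts

namespace K931.MulSurj

open Groth.Agent Groth.Agent.Fdesc.LocGen Groth.Agent.CohqB.SerTw
open Groth.Agent.Ega2 Groth.Agent.Ega2.TensGen Groth.Agent.Ega2.TensPow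

variable {X P : Scheme.{u}} {L : X.Modules} {n : ℕ} (s : Fin n → Γ(L, ⊤))

/-- `⨁ F → F ⊗ L`, `(m_i) ↦ ∑ m_i ⊗ s_i`. -/
noncomputable def mu (F : X.Modules) : (⨁ fun _ : Fin n => F) ⟶ CohB1.tensorMod F L :=
  biproduct.desc fun i => mulSec (s i) F

theorem sum_app {M N : X.Modules} {ι : Type*} (S : Finset ι) (φ : ι → (M ⟶ N)) {U : X.Opens} (x : Γ(M, U)) :
    (∑ i ∈ S, φ i).app U x = ∑ i ∈ S, (φ i).app U x := by
  classical
  induction S using Finset.induction_on with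
  | empty => simp
  | insert a S ha ih =>
    rw [Finset.sum_insert ha, Finset.sum_insert ha, ← ih]
    rfl

/-- Global sections of `G ⊗ L` are combinations of the `s i`. -/
def Gen (G : X.Modules) : Prop :=
  ∀ t : Γ(CohB1.tensorMod G L, ⊤), ∃ u : Fin n → Γ(G, ⊤), t = ∑ i, tmul (u i) (s i)

theorem Gen.of_iso {G G' : X.Modules} (e : G ≅ G') (h : Gen s G) : Gen s G' := by
  intro t
  obtain ⟨u, hu⟩ := h ((Tens.mapTIso e (Iso.refl L)).inv.app ⊤ t)
  refine ⟨fun i => e.hom.app ⊤ (u i), ?_⟩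
  have h1 := congrArg ((Tens.mapTIso e (Iso.refl L)).hom.app ⊤) hu
  rw [app_symm_app, map_sum] at h1
  rw [h1]
  refine Finset.sum_congr rfl fun i _ => ?_
  exact mapTIso_tmul e (Iso.refl L) (u i) (s i)

theorem ι_mu (F : X.Modules) (i : Fin n) : biproduct.ι (fun _ : Fin n => F) i ≫ mu s F = mulSec (s i) F :=
  biproduct.ι_desc _ _

/-- `((m ⊗ t) ⊗ l ↦ (m ⊗ l) ⊗ t`. -/
theorem tw_mulSec_app {F N : X.Modules} {U : X.Opens} (i : Fin n) (x : Γ(CohB1.tensorMod F N, U)) :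
    (comm F L N).hom.app U (((tw N).map (mulSec (s i) F)).app U x) = tmul x (res L le_top (s i)) :=
  congr(($(map_mulSec_comm (s i) F N)).app U x)

theorem gen_of_surjective {F N : X.Modules}
    (h : Function.Surjective (((tw N).map (mu s F)).app ⊤)) : Gen s (CohB1.tensorMod F N) := by
  intro t
  obtain ⟨w, hw⟩ := h ((comm F L N).inv.app ⊤ t)
  refine ⟨fun i => ((tw N).map (biproduct.π (fun _ : Fin n => F) i)).app ⊤ w, ?_⟩
  have h1 : (𝟙 (⨁ fun _ : Fin n => F)) = ∑ i : Fin n, biproduct.π (fun _ : Fin n => F) i ≫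
      biproduct.ι (fun _ : Fin n => F) i := biproduct.total.symm
  have h2 : (tw N).map (mu s F) = ∑ i : Fin n, (tw N).map (biproduct.π (fun _ : Fin n => F) i) ≫
      (tw N).map (mulSec (s i) F) := by
    conv_lhs => rw [← Category.id_comp (mu s F), h1, Preadditive.sum_comp, Functor.map_sum]
    refine Finset.sum_congr rfl fun i _ => ?_
    rw [Category.assoc, ι_mu, Functor.map_comp]
  have h3 := congrArg ((comm F L N).hom.app ⊤) hw
  rw [app_symm_app] at h3
  rw [← h3, h2, sum_app]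
  refine (map_sum ((comm F L N).hom.app ⊤).hom _ _).trans ?_
  refine Finset.sum_congr rfl fun i _ => ?_
  refine (tw_mulSec_app s i _).trans ?_
  rw [res_refl]
  rfl

/-- Local surjectivity downstairs. -/
theorem locSurj_push (f : X ⟶ P)
    (hs : ∀ p : P, ∃ (V : P.Opens) (i : Fin n), p ∈ V ∧ IsGen (res L (le_top : f ⁻¹ᵁ V ≤ ⊤) (s i)))
    (F N : X.Modules) :
    CohqA.H1Lift.LocSurj ((Scheme.Modules.pushforward f).map ((tw N).map (mu s F))) := by
  intro U t p hp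
  obtain ⟨V, i, hpV, hgen⟩ := hs p
  have hW : f ⁻¹ᵁ (U ⊓ V) ≤ f ⁻¹ᵁ V := f.preimage_mono inf_le_right
  let t' : Γ(CohB1.tensorMod (CohB1.tensorMod F L) N, f ⁻¹ᵁ (U ⊓ V)) :=
    res _ (f.preimage_mono (inf_le_left : U ⊓ V ≤ U)) t
  obtain ⟨y, hy⟩ := (mulSec_app_bijective (s i) (CohB1.tensorMod F N) hgen hW).2
    ((comm F L N).hom.app _ t')
  refine ⟨U ⊓ V, inf_le_left,
    ((tw N).map (biproduct.ι (fun _ : Fin n => F) i)).app (f ⁻¹ᵁ (U ⊓ V)) y, ⟨hp, hpV⟩, ?_⟩
  have h1 : ((tw N).map (mu s F)).app (f ⁻¹ᵁ (U ⊓ V))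
      (((tw N).map (biproduct.ι (fun _ : Fin n => F) i)).app (f ⁻¹ᵁ (U ⊓ V)) y) =
      ((tw N).map (mulSec (s i) F)).app (f ⁻¹ᵁ (U ⊓ V)) y := by
    rw [← ι_mu s F i, Functor.map_comp]
    rfl
  refine h1.trans ?_
  have h2 : (comm F L N).hom.app _ (((tw N).map (mulSec (s i) F)).app (f ⁻¹ᵁ (U ⊓ V)) y) =
      (comm F L N).hom.app _ t' := by
    rw [tw_mulSec_app, ← hy, mulSec_app]
  have h3 := congrArg ((comm F L N).inv.app _) h2
  rw [symm_app_app, symm_app_app] at h3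
  exact h3

/-- Twisting commutes with kernels of locally surjective maps. -/
theorem nonempty_kernel_tw {N : X.Modules} (hN : PicF.IsInvertible N) {M M' : X.Modules} (φ : M ⟶ M')
    [Epi φ] : Nonempty (kernel ((tw N).map φ) ≅ CohB1.tensorMod (kernel φ) N) := by
  have h1 : (ShortComplex.mk (kernel.ι φ) φ (kernel.condition φ)).ShortExact :=
    { exact := ShortComplex.exact_of_f_is_kernel _ (kernelIsKernel φ)
      mono_f := inferInstance
      epi_g := ‹_› }
  have h2 := shortExact_tw hN h1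
  exact ⟨(IsLimit.conePointUniqueUpToIso h2.fIsKernel (kernelIsKernel ((tw N).map φ))).symm⟩

theorem nonempty_kernel_push (f : X ⟶ P) {M M' : X.Modules} (φ : M ⟶ M') :
    Nonempty (kernel ((Scheme.Modules.pushforward f).map φ) ≅ (Scheme.Modules.pushforward f).obj (kernel φ)) :=
  ⟨(PreservesKernel.iso (Scheme.Modules.pushforward f) φ).symm⟩

theorem epi_mu (hs : ∀ p : X, ∃ (V : X.Opens) (i : Fin n), p ∈ V ∧ IsGen (res L (le_top : V ≤ ⊤) (s i)))
    (F : X.Modules) : Epi (mu s F) := by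
  have : CohqA.H1Lift.LocSurj (mu s F) := by
    intro U t p hp
    obtain ⟨V, i, hpV, hgen⟩ := hs p
    obtain ⟨y, hy⟩ := (mulSec_app_bijective (s i) F hgen (inf_le_right : U ⊓ V ≤ V)).2
      (res _ (inf_le_left : U ⊓ V ≤ U) t)
    refine ⟨U ⊓ V, inf_le_left, (biproduct.ι (fun _ : Fin n => F) i).app (U ⊓ V) y, ⟨hp, hpV⟩, ?_⟩
    refine Eq.trans ?_ hy
    rw [← ι_mu s F i]
    rfl
  have := CohqA.H1Lift.epi_toAb_of_locSurj _ this
  exact (CohqA.H1Lift.toAbF X).epi_of_epi_map this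

theorem gen_of_subsingleton (f : X ⟶ P)
    (hs : ∀ p : P, ∃ (V : P.Opens) (i : Fin n), p ∈ V ∧ IsGen (res L (le_top : f ⁻¹ᵁ V ≤ ⊤) (s i)))
    (F : X.Modules) {N : X.Modules} (hN : PicF.IsInvertible N)
    (h : Subsingleton (Coh.HH P ((Scheme.Modules.pushforward f).obj
      (CohB1.tensorMod (kernel (mu s F)) N)) 1)) : Gen s (CohB1.tensorMod F N) := by
  have : Epi (mu s F) := epi_mu s (fun p => by
    obtain ⟨V, i, hV, hg⟩ := hs (f p)
    exact ⟨f ⁻¹ᵁ V, i, hV, hg⟩) F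
  obtain ⟨e⟩ := nonempty_kernel_tw hN (mu s F)
  obtain ⟨e'⟩ := nonempty_kernel_push f ((tw N).map (mu s F))
  refine gen_of_surjective s ?_
  exact CohqA.H1Lift.app_top_surjective_of_H1 ((Scheme.Modules.pushforward f).map ((tw N).map (mu s F)))
    (locSurj_push s f hs F N)
    (Fga.HShift.subsingleton_of_iso (e' ≪≫ (Scheme.Modules.pushforward f).mapIso e).symm 1 h)

end K931.MulSurj
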