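import Groth.Agent.PosLin.K931.ChiAsym
import Groth.Agent.Vanish.K910.Upper
import Groth.Agent.Vanish.K909.Kleiman
import Groth.Agent.Fga.HodgePush

/-!
# Growth of the cohomology of powers of a nef module

Relative to the Nakai–Moishezon criterion: for `L` nef and `F` coherent with `dim Supp F ≤ d`,
`h^i(L^m ⊗ F) = O(m^{d-1})` for `i > 0` (and `= 0` for `d = 0`).
-/

set_option autoImplicit false
universe u
open CategoryTheory CategoryTheory.Limits AlgebraicGeometry TopologicalSpace

namespace K931.NefGrowth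

open Groth.Agent Groth.Agent.Fga Groth.Agent.Fga.PicMon Groth.Agent.Fga.RegSec K910.HZ K910.Growth K931.HQ
  K931.NumGrowth K909.Kleiman Groth.Agent.Fdesc.LocGen

/-- The estimate for supports of dimension `≤ d`. -/
def Est (k : Type u) [Field k] (d : ℕ) : Prop :=
  ∀ (X : Scheme.{u}) [X.Over (Spec (CommRingCat.of k))] [IsProper (X ↘ Spec (CommRingCat.of k))] (A : X.Modules),
    CohB1.IsAmple A → ∀ L : X.Modules, PicF.IsInvertible L → Nef k X L → ∀ F : X.Modules, Coh.IsCoh F →
      topologicalKrullDim (CohB1.support F) ≤ d → ∀ p : ℕ, IsO d (fun m => HQ k X (p + 1) (mc L ^ m * mc F))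

variable {k : Type u} [Field k]

theorem est_zero : Est k 0 := by
  intro X _ _ A hA L hL hnef F hF hd p m
  change HQ k X (p + 1) (mc L ^ m * mc F) = 0
  rw [← mc_tensorPow, ← mc_tensor, HQ_mc]
  refine hh_eq_zero k (isCoh_tensor (isInvertible_tensorPow hL m) hF) 0 ?_ _ (Nat.succ_pos p)
  rw [ChiAsym.support_twist X hL F]
  exact hd

section one

variable {d : ℕ} (h : Est k d) {X : Scheme.{u}} [X.Over (Spec (CommRingCat.of k))]
  [IsProper (X ↘ Spec (CommRingCat.of k))] {A : X.Modules} (hA : CohB1.IsAmple A) {L : X.Modules}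
  (hL : PicF.IsInvertible L) (hnef : Nef k X L)

include h hA hL hnef

theorem Est.inv {Q : X.Modules} (hQ : Coh.IsCoh Q) (hd : topologicalKrullDim (CohB1.support Q) ≤ d) {c : MC X}
    (hc : Inv c) (p : ℕ) : IsO d (fun m => HQ k X (p + 1) (mc L ^ m * (c * mc Q))) := by
  obtain ⟨N, hN, rfl⟩ := hc
  obtain ⟨N', hN', hNN'⟩ := exists_inv hN
  refine (h X A hA L hL hnef (CohB1.tensorMod N Q) (isCoh_tensor hN hQ) ?_ p)
  rw [PosMain.support_tensor X hN hN' (by rw [mul_comm, hNN'])]
  exact hd

/-- Cohomology in degree `≥ 2`. -/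
theorem Est.step_high {F : X.Modules} (hF : Coh.IsCoh F)
    (hd : topologicalKrullDim (CohB1.support F) = ((d + 1 : ℕ) : WithBot ℕ∞)) (p : ℕ) :
    IsO (d + 1) (fun m => HQ k X (p + 2) (mc L ^ m * mc F)) := by
  have := HypSec.isNoetherian k X
  have := HypSec.isSeparated k X
  obtain ⟨n₀, hn₀, h0⟩ := S2329.result X A L hA hL
  set M := CohB1.tensorMod (CohB1.tensorPow A n₀) L with hM
  have hMa : CohB1.IsAmple M := (h0 n₀ le_rfl).1
  obtain ⟨j, s, hs, hsd⟩ := HypSec.exists_cut k X M hMa F hF d hd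
  obtain ⟨l, t, ht, htd⟩ := HypSec.exists_cut k X A hA F hF d hd
  obtain ⟨A', hA', hAA'⟩ := exists_inv hA.1
  have hN₂ : PicF.IsInvertible (CohB1.tensorPow M (j + 1)) := isInvertible_tensorPow hMa.1 _
  have hN₁ : PicF.IsInvertible (CohB1.tensorPow A (l + 1)) := isInvertible_tensorPow hA.1 _
  have hQ₂ := isCoh_coker k hN₂ hF s
  have hQ₁ := isCoh_coker k hN₁ hF t
  set q := n₀ * (j + 1) with hq
  set E : MC X := mc A' ^ (q * (l + 1)) with hE
  have hEi : Inv E := (inv_mc hA').pow _
  have hEA : E * mc A ^ (q * (l + 1)) = 1 := by rw [hE, ← mul_pow, hAA', one_pow]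
  have hm2 : mc (CohB1.tensorPow M (j + 1)) ^ (l + 1) = mc A ^ (q * (l + 1)) * mc L ^ ((j + 1) * (l + 1)) := by
    rw [mc_tensorPow, hM, mc_tensor, mc_tensorPow, ← pow_mul, mul_pow, ← pow_mul, hq, mul_assoc]
  have hm1 : mc (CohB1.tensorPow A (l + 1)) ^ q = mc A ^ (q * (l + 1)) := by
    rw [mc_tensorPow, ← pow_mul, mul_comm]
  refine IsO.step (m₀ := (j + 1) * (l + 1)) (by positivity) (f := fun m =>
    (∑ t' ∈ Finset.range (l + 1), HQ k X (p + 2) (mc L ^ m * (E * mc (CohB1.tensorPow M (j + 1)) ^ t' *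
      mc (cokernel (mulS s F))))) +
    ∑ t' ∈ Finset.range q, HQ k X (p + 1) (mc L ^ m * (E * mc (CohB1.tensorPow A (l + 1)) ^ t' *
      mc (cokernel (mulS t F))))) ?_ ?_
  · refine IsO.add (IsO.sum _ fun t' _ => ?_) (IsO.sum _ fun t' _ => ?_)
    · exact h.inv hA hL hnef hQ₂ hsd.le (hEi.mul ((inv_mc hN₂).pow t')) (p + 1)
    · exact h.inv hA hL hnef hQ₁ htd.le (hEi.mul ((inv_mc hN₁).pow t')) p
  · intro m
    have hc : Inv (mc L ^ m * E) := ((inv_mc hL).pow m).mul hEi
    have h1 := HQ_mid_mulS_pow k hN₂ hF s hs hc (p + 2) (l + 1)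
    have h2 := HQ_left_mulS_pow k hN₁ hF t ht hc (p + 1) q
    have e1 : mc L ^ m * E * mc (CohB1.tensorPow M (j + 1)) ^ (l + 1) * mc F =
        mc L ^ (m + (j + 1) * (l + 1)) * mc F := by
      rw [hm2, pow_add, mul_assoc (mc L ^ m), ← mul_assoc E, hEA, one_mul]
    have e2 : mc L ^ m * E * mc (CohB1.tensorPow A (l + 1)) ^ q * mc F = mc L ^ m * mc F := by
      rw [hm1, mul_assoc (mc L ^ m), hEA, mul_one]
    rw [e1] at h1
    rw [e2] at h2
    simp only [mul_assoc] at h1 h2 ⊢
    have h3 := h1.trans (Nat.add_le_add_right h2 _)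
    rw [add_assoc, add_comm (∑ t ∈ Finset.range q, _)] at h3
    exact h3

end one

/-- Isolating `h¹` in the Euler characteristic. -/
theorem h_one_le (h : ℕ → ℕ) (d : ℕ) : (h 1 : ℤ) ≤ h 0 + ∑ i ∈ Finset.range d, (h (i + 2) : ℤ) -
    ∑ i ∈ Finset.range (d + 2), (-1 : ℤ) ^ i * (h i : ℤ) := by
  rw [Finset.sum_range_succ', Finset.sum_range_succ']
  have h1 : ∑ i ∈ Finset.range d, (-1 : ℤ) ^ (i + 1 + 1) * (h (i + 1 + 1) : ℤ) ≤
      ∑ i ∈ Finset.range d, (h (i + 2) : ℤ) := by
    refine Finset.sum_le_sum fun i _ => ?_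
    rcases neg_one_pow_eq_or ℤ (i + 1 + 1) with h2 | h2 <;> rw [h2]
    · rw [one_mul]
    · have : (0 : ℤ) ≤ h (i + 2) := Int.natCast_nonneg _
      linarith
  simp only [pow_zero, zero_add, pow_one]
  linarith

section integral

variable {d : ℕ} (h : Est k d) (nak : Nak.{u} k) {X : Scheme.{u}} [X.Over (Spec (CommRingCat.of k))]
  [IsProper (X ↘ Spec (CommRingCat.of k))] [IsIntegral X] (hX : topologicalKrullDim X = ((d + 1 : ℕ) : WithBot ℕ∞))
  {A : X.Modules} (hA : CohB1.IsAmple A) {L : X.Modules}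
  (hL : PicF.IsInvertible L) (hnef : Nef k X L)

include k in
/-- Torsion modules have small support. -/
theorem dim_le_of_generic {n : ℕ} {X : Scheme.{u}} [X.Over (Spec (CommRingCat.of k))]
    [IsProper (X ↘ Spec (CommRingCat.of k))] [IsIntegral X] (hX : topologicalKrullDim X ≤ ((n + 1 : ℕ) : WithBot ℕ∞))
    {Q : X.Modules} (hQ : Coh.IsCoh Q)
    (hη : genericPoint X ∉ CohB1.support Q) : topologicalKrullDim (CohB1.support Q) ≤ (n : ℕ) := by
  have := IntAdd.isNoetherian k X
  refine IntNum0.withBot_le_of_lt_succ ?_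
  have hcl : IsClosed (CohB1.support Q) := S0020.result X _ hQ.2
  have hne : CohB1.support Q ≠ Set.univ := by
    intro h
    rw [h] at hη
    exact hη (Set.mem_univ _)
  refine DimLt.topologicalKrullDim_lt (A := Set.univ) (irreducibleSpace_def X |>.mp inferInstance) hcl
    (Set.subset_univ _) hne ?_
  have h1 : topologicalKrullDim (Set.univ : Set X) ≤ topologicalKrullDim X :=
    Topology.IsInducing.subtypeVal.topologicalKrullDim_le
  exact lt_of_le_of_lt (h1.trans hX) (by exact_mod_cast Nat.lt_succ_self (n + 1))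

omit [IsProper (X ↘ Spec (CommRingCat.of k))] [X.Over (Spec (CommRingCat.of k))] [IsIntegral X] in
theorem dim_unit (X : Scheme.{u}) : topologicalKrullDim (CohB1.support (Coh.structureModule X)) = topologicalKrullDim X := by
  rw [Pic13.H970.Assembly.support_unit]
  exact (Homeomorph.Set.univ X).isHomeomorph.topologicalKrullDim_eq

include h nak hX hA hL hnef

theorem Est.step_integral : IsO (d + 1) (fun m => HQ k X 1 (mc L ^ m * mc (Coh.structureModule X))) := by
  have hN := IntAdd.isNoetherian k X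
  have hO : Coh.IsCoh (Coh.structureModule X) := HodgeSec.isCoh_of_isInvertible isInvertible_structureModule
  by_cases hs : ∃ m₀ : ℕ, 0 < m₀ ∧ ∃ s : Coh.structureModule X ⟶ CohB1.tensorPow L m₀, s ≠ 0
  · obtain ⟨m₀, hm₀, s, hs⟩ := hs
    have hNi : PicF.IsInvertible (CohB1.tensorPow L m₀) := isInvertible_tensorPow hL m₀
    have hmono := HodgeSec.mono_mulS hNi isInvertible_structureModule s hs
    have hQ := isCoh_coker k hNi hO s
    have hdim := dim_le_of_generic (k := k) hX.le hQ (HodgeSec.genericPoint_notMem_support hNi hO s hs)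
    refine IsO.step hm₀ (h X A hA L hL hnef _ hQ hdim 0) fun m => ?_
    have h1 := HQ_mid_mulS k hNi hO s hmono ((inv_mc hL).pow m) 1
    rw [mc_tensorPow, ← pow_add] at h1
    exact h1
  · -- no sections
    have h0 : ∀ m, 1 ≤ m → HQ k X 0 (mc L ^ m * mc (Coh.structureModule X)) = 0 := by
      intro m hm
      by_contra hne
      rw [mc_one, mul_one, ← mc_tensorPow, HQ_mc] at hne
      obtain ⟨s, hs'⟩ := HodgeSec.exists_section k (Nat.pos_of_ne_zero hne)
      exact hs ⟨m, hm, s, hs'⟩
    have hdim : topologicalKrullDim (CohB1.support (Coh.structureModule X)) = ((d + 1 : ℕ) : WithBot ℕ∞) := by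
      rw [dim_unit, hX]
    obtain ⟨C, hC⟩ := ChiAsym.asym k X (d + 1) hL hX.le hO hdim.le
    have he := nonneg_mixed nak hX.le hnef hL hA (r := d + 1) (Coh.structureModule X) hO hdim.le
      (fun _ => Grpsch.PicGrp.mk L hL) (fun _ => Or.inl rfl)
    have hhigh : IsO (d + 1) (fun m => ∑ i ∈ Finset.range d, HQ k X (i + 2) (mc L ^ m * mc (Coh.structureModule X))) :=
      IsO.sum _ fun i _ => h.step_high hA hL hnef hO hdim i
    refine IsO.of_eventually 1 (hhigh.add (g := fun m => C * (m + 1) ^ d) ⟨C, fun m => le_rfl⟩) fun m hm => ?_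
    have h1 := h_one_le (fun i => HQ k X i (mc L ^ m * mc (Coh.structureModule X))) d
    have h2 := hC m
    beta_reduce at h1 h2
    rw [h0 m hm] at h1
    have h3 := (abs_le.mp h2).1
    set χ : ℤ := ∑ i ∈ Finset.range (d + 1 + 1), (-1 : ℤ) ^ i * (HQ k X i (mc L ^ m * mc (Coh.structureModule X)) : ℤ) with hχ
    have h4 : -χ ≤ C * ((m : ℤ) + 1) ^ d := by
      have hC0 : (0 : ℤ) ≤ C * ((m : ℤ) + 1) ^ d := by positivity
      rcases le_or_gt 0 χ with h5 | h5
      · linarith
      · have h6 : (1 : ℤ) ≤ ((d + 1).factorial : ℤ) := by exact_mod_cast Nat.one_le_iff_ne_zero.mpr (Nat.factorial_ne_zero _)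
        have h7 : ((d + 1).factorial : ℤ) * χ ≤ χ := by nlinarith
        have h8 : 0 ≤ K909.InterML.inter k X (d + 1) (Coh.structureModule X) (fun _ : Fin (d + 1) => Grpsch.PicGrp.mk L hL) * (m : ℤ) ^ (d + 1) :=
          mul_nonneg he (by positivity)
        linarith
    have h9 : (HQ k X 1 (mc L ^ m * mc (Coh.structureModule X)) : ℤ) ≤
        ∑ i ∈ Finset.range d, (HQ k X (i + 2) (mc L ^ m * mc (Coh.structureModule X)) : ℤ) + C * ((m : ℤ) + 1) ^ d := by
      have : (d + 1 + 1) = d + 2 := rfl
      push_cast at h1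
      linarith
    exact_mod_cast h9

end integral

/-- Zero modules have empty support. -/
theorem dim_support_of_isZero {X : Scheme.{u}} {F : X.Modules} (hF : IsZero F) (d : ℕ) :
    topologicalKrullDim (CohB1.support F) ≤ (d : ℕ) := by
  rw [CohqB.DevSupport.support_eq_empty_of_isZero hF]
  have : topologicalKrullDim (∅ : Set X) = ⊥ := by
    rw [topologicalKrullDim, Order.krullDim_eq_bot_iff]
    exact ⟨fun Z => by
      obtain ⟨x, hx⟩ := Z.isIrreducible'.nonempty
      exact x.2⟩
  rw [this]
  exact bot_le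

theorem Est.step_low {d : ℕ} (h : Est k d) (nak : Nak.{u} k) {X : Scheme.{u}} [X.Over (Spec (CommRingCat.of k))]
    [IsProper (X ↘ Spec (CommRingCat.of k))] {A : X.Modules} (hA : CohB1.IsAmple A) {L : X.Modules}
    (hL : PicF.IsInvertible L) (hnef : Nef k X L) {F : X.Modules} (hF : Coh.IsCoh F)
    (hd : topologicalKrullDim (CohB1.support F) ≤ ((d + 1 : ℕ) : WithBot ℕ∞)) :
    IsO (d + 1) (fun m => HQ k X 1 (mc L ^ m * mc F)) := by
  have hN := IntAdd.isNoetherian k X
  rcases isEmpty_or_nonempty X with hemp | hne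
  · exact (h X A hA L hL hnef F hF (dim_support_of_isZero (CohqB.DevSupport.isZero_of_support_eq_empty
      (Set.eq_empty_of_isEmpty _)) d) 0).succ
  · refine S0027.result X (fun F => topologicalKrullDim (CohB1.support F) ≤ ((d + 1 : ℕ) : WithBot ℕ∞) →
      IsO (d + 1) (fun m => HQ k X 1 (mc L ^ m * mc F))) ?_ ?_ ?_ F hF hd
    · rintro M N ⟨e⟩ h1 h2
      rw [← mc_eq e]
      exact h1 (by rwa [CohqB.DevSupport.support_congr e])
    · intro S hS c1 c2 c3 h1 h3 h2
      rw [CohqB.DevSupport.support_shortExact hS] at h2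
      have hmono : ∀ s : Set X, s ⊆ CohB1.support S.X₁ ∪ CohB1.support S.X₃ →
          topologicalKrullDim s ≤ ((d + 1 : ℕ) : WithBot ℕ∞) := fun s hs =>
        ((Topology.IsEmbedding.inclusion hs).isInducing.topologicalKrullDim_le).trans h2
      refine ((h1 (hmono _ Set.subset_union_left)).add (h3 (hmono _ Set.subset_union_right))).mono fun m => ?_
      exact HQ_mid k S hS c1 c2 c3 ((inv_mc hL).pow m) 1
    · intro Z i hi hZ I ι hι hIq hdim
      by_cases hη : genericPoint Z ∈ CohB1.support I
      · have hZN : IsLocallyNoetherian Z := LocallyOfFiniteType.isLocallyNoetherian i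
        letI : Z.Over (Spec (CommRingCat.of k)) := ⟨i ≫ (X ↘ Spec (CommRingCat.of k))⟩
        have hZp : IsProper (Z ↘ Spec (CommRingCat.of k)) :=
          inferInstanceAs (IsProper (i ≫ (X ↘ Spec (CommRingCat.of k))))
        have hcoh := Pic13.H946.CoreDev.isCoh_ideal ι hIq
        have hsupp : CohB1.support I = Set.univ := by
          have hcl := S0020.result Z I hcoh.2
          have h1 := hcl.closure_subset_iff.mpr (Set.singleton_subset_iff.mpr hη)
          have h2 : closure {genericPoint Z} = (Set.univ : Set Z) := genericPoint_spec Z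
          rw [h2] at h1
          exact Set.univ_subset_iff.mp h1
        have hdZ : topologicalKrullDim (CohB1.support ((Coh.push i).obj I)) = topologicalKrullDim Z := by
          rw [CohqB.DevSimple.support_push, hsupp, Set.image_univ]
          exact (IsHomeomorph.topologicalKrullDim_eq _ i.isClosedEmbedding.isEmbedding.toHomeomorph.isHomeomorph).symm
        rcases lt_or_eq_of_le hdim with hlt | heq
        · exact (h X A hA L hL hnef _ (HodgePush.isCoh_push i hcoh) (IntNum0.withBot_le_of_lt_succ hlt) 0).succ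
        · rw [hdZ] at heq
          have hAZ := CohqB.AmpCocycle.isAmple_pullback i hA
          have hLZ : PicF.IsInvertible ((Scheme.Modules.pullback i).obj L) := isInvertible_pullback i hL
          have hnefZ : Nef k Z ((Scheme.Modules.pullback i).obj L) := Nef.pullback k X hnef i rfl
          have hNZ := IntAdd.isNoetherian k Z
          have hO : Coh.IsCoh (Coh.structureModule Z) :=
            HodgeSec.isCoh_of_isInvertible isInvertible_structureModule
          have hT : genericPoint Z ∉ CohB1.support (cokernel ι) := by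
            rcases Pic13.H946.CoreDev.torsion_or_torsion ι with h1 | h1
            · exact absurd hη h1
            · exact h1
          have hTc : Coh.IsCoh (cokernel ι) := PerfA.CohSerre.isCoh_cokernel ι hcoh.1 hO
          have hTd := dim_le_of_generic (k := k) heq.le hTc hT
          obtain ⟨C, hC⟩ := upper k (d + 1) heq.le hAZ hLZ hTc d hTd
          have hS : (ShortComplex.mk ι (cokernel.π ι) (cokernel.condition _)).ShortExact :=
            { exact := ShortComplex.exact_cokernel _
              mono_f := hι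
              epi_g := inferInstanceAs (Epi (cokernel.π ι)) }
          have hint := h.step_integral nak heq hAZ hLZ hnefZ
          have hup : IsO (d + 1) (fun m => HQ k Z 0 (mc ((Scheme.Modules.pullback i).obj L) ^ m * mc (cokernel ι))) :=
            ⟨C, fun m => by have h1 := hC m; rw [HZ_eq] at h1; exact h1⟩
          refine (hup.add hint).mono fun m => ?_
          rw [HQ_push k i rfl hL]
          exact HQ_left k _ hS hcoh hO hTc ((inv_mc hLZ).pow m) 0
      · have hz : IsZero ((Coh.push i).obj I) := (Coh.push i).map_isZero (Pic13.H946.Main.isZero_of_torsion ι hη)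
        have hcoh : Coh.IsCoh ((Coh.push i).obj I) := by
          have hZN : IsLocallyNoetherian Z := LocallyOfFiniteType.isLocallyNoetherian i
          exact HodgePush.isCoh_push i (Pic13.H946.CoreDev.isCoh_ideal ι hIq)
        exact (h X A hA L hL hnef _ hcoh (dim_support_of_isZero hz d) 0).succ

/-- **The estimate.** -/
theorem est (nak : Nak.{u} k) (d : ℕ) : Est k d := by
  induction d with
  | zero => exact est_zero
  | succ d ih =>
    intro X _ _ A hA L hL hnef F hF hd p
    cases p with
    | zero => exact ih.step_low nak hA hL hnef hF hd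
    | succ p =>
      rcases lt_or_eq_of_le hd with hlt | heq
      · exact (ih X A hA L hL hnef F hF (IntNum0.withBot_le_of_lt_succ hlt) (p + 1)).succ
      · exact ih.step_high hA hL hnef hF heq p

end K931.NefGrowth
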