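import Mathlib

/-!
# Numerical lemmas on polynomial growth
-/

set_option autoImplicit false

namespace K931.NumGrowth

open Finset

theorem bound_of_step' {a : ℕ → ℕ} {C e m₀ : ℕ} (h0 : 0 < m₀) (h : ∀ m, a (m + m₀) ≤ a m + C * (m + 1) ^ e) :
    ∃ C', ∀ m, a m ≤ C' * (m + 1) ^ (e + 1) := by
  let M := (range m₀).sup a
  have key : ∀ m, a m ≤ M + C * (m + 1) ^ e * m := by
    intro m
    induction m using Nat.strong_induction_on with
    | _ m ih =>
      rcases lt_or_ge m m₀ with hm | hm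
      · exact le_add_right (le_sup (f := a) (mem_range.mpr hm))
      · obtain ⟨j, rfl⟩ : ∃ j, m = j + m₀ := ⟨m - m₀, by omega⟩
        have h1 := ih j (by omega)
        have h2 := h j
        have h3 : (j + 1) ^ e ≤ (j + m₀ + 1) ^ e := Nat.pow_le_pow_left (by omega) e
        calc a (j + m₀) ≤ a j + C * (j + 1) ^ e := h2
          _ ≤ M + C * (j + 1) ^ e * j + C * (j + 1) ^ e := by omega
          _ = M + C * (j + 1) ^ e * (j + 1) := by ring
          _ ≤ M + C * (j + m₀ + 1) ^ e * (j + m₀) := by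
            gcongr
            omega
  refine ⟨M + C, fun m => (key m).trans ?_⟩
  have h1 : 1 ≤ (m + 1) ^ (e + 1) := Nat.one_le_pow _ _ (by omega)
  calc M + C * (m + 1) ^ e * m ≤ M * (m + 1) ^ (e + 1) + C * (m + 1) ^ e * (m + 1) := by
        gcongr
        · exact Nat.le_mul_of_pos_right _ h1
        · omega
    _ = (M + C) * (m + 1) ^ (e + 1) := by ring

theorem bound_of_step {a : ℕ → ℕ} {C e : ℕ} (h : ∀ m, a (m + 1) ≤ a m + C * (m + 1) ^ e) :
    ∃ C', ∀ m, a m ≤ C' * (m + 1) ^ (e + 1) := bound_of_step' one_pos h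

/-- `f` is asymptotic to `e m^j / j!` with error of lower order. -/
def Asym (e : ℤ) (f : ℕ → ℤ) : ℕ → Prop
  | 0 => ∀ m, f m = e
  | j + 1 => ∃ C : ℕ, ∀ m : ℕ, |((j + 1).factorial : ℤ) * f m - e * (m : ℤ) ^ (j + 1)| ≤ C * ((m : ℤ) + 1) ^ j

/-- The defect of the power sum. -/
def u (j : ℕ) (t : ℤ) : ℤ := (t - 1) ^ (j + 1) - t ^ (j + 1) + (j + 1) * t ^ j

theorem u_zero (t : ℤ) : u 0 t = 0 := by simp [u]

theorem u_succ (j : ℕ) (t : ℤ) : u (j + 1) t = (t - 1) * u j t + (j + 1) * t ^ j := by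
  unfold u
  push_cast
  ring

theorem exists_u (j : ℕ) : ∃ K : ℕ, ∀ t : ℤ, 1 ≤ t → |u (j + 1) t| ≤ K * t ^ j := by
  induction j with
  | zero => exact ⟨1, fun t _ => by simp [u_succ, u_zero]⟩
  | succ j ih =>
    obtain ⟨K, hK⟩ := ih
    refine ⟨K + (j + 2), fun t ht => ?_⟩
    rw [u_succ]
    have h1 := hK t ht
    have h2 : 0 ≤ t ^ j := by positivity
    have h4 : 0 ≤ (K : ℤ) * t ^ j := by positivity
    calc |(t - 1) * u (j + 1) t + ((j + 1 : ℕ) + 1) * t ^ (j + 1)| ≤
        |(t - 1) * u (j + 1) t| + |((j + 1 : ℕ) + 1 : ℤ) * t ^ (j + 1)| := abs_add_le _ _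
      _ = (t - 1) * |u (j + 1) t| + (j + 2) * t ^ (j + 1) := by
        rw [abs_mul, abs_of_nonneg (by omega : (0 : ℤ) ≤ t - 1),
          abs_of_nonneg (by positivity : (0 : ℤ) ≤ ((j + 1 : ℕ) + 1 : ℤ) * t ^ (j + 1))]
        push_cast; ring
      _ ≤ t * (K * t ^ j) + (j + 2) * t ^ (j + 1) := by
        gcongr
        omega
      _ = ((K + (j + 2) : ℕ) : ℤ) * t ^ (j + 1) := by push_cast; ring

theorem Asym.step {e : ℤ} {f g : ℕ → ℤ} (hfg : ∀ m, f (m + 1) - f m = g (m + 1)) {j : ℕ} (hg : Asym e g j) :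
    Asym e f (j + 1) := by
  cases j with
  | zero =>
    have h1 : ∀ m, f m = f 0 + e * m := by
      intro m
      induction m with
      | zero => simp
      | succ m ih =>
        have := hfg m
        rw [hg (m + 1)] at this
        push_cast
        linarith
    refine ⟨(f 0).natAbs, fun m => ?_⟩
    rw [h1 m]
    simp
  | succ j =>
    obtain ⟨C, hC⟩ := hg
    obtain ⟨K, hK⟩ := exists_u j
    -- error after `m` steps
    let D : ℤ := (j + 2) * C + |e| * K
    have hD : 0 ≤ D := by positivity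
    have key : ∀ m : ℕ, |((j + 2).factorial : ℤ) * f m - e * (m : ℤ) ^ (j + 2)| ≤
        ((j + 2).factorial : ℤ) * |f 0| + D * m * ((m : ℤ) + 1) ^ j := by
      intro m
      induction m with
      | zero =>
        simp [abs_mul]
      | succ m ih =>
        have h1 := hC (m + 1)
        have h2 := hK ((m : ℤ) + 1) (by omega)
        have hf : f (m + 1) = f m + g (m + 1) := by linarith [hfg m]
        have hu : ((m : ℤ)) ^ (j + 2) = ((m : ℤ) + 1) ^ (j + 2) - (j + 2) * ((m : ℤ) + 1) ^ (j + 1) +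
            u (j + 1) ((m : ℤ) + 1) := by
          unfold u; push_cast; ring
        have hfac : ((j + 2).factorial : ℤ) = (j + 2) * ((j + 1).factorial : ℤ) := by
          rw [Nat.factorial_succ]; push_cast; ring
        have hdecomp : ((j + 2).factorial : ℤ) * f (m + 1) - e * ((m + 1 : ℕ) : ℤ) ^ (j + 2) =
            (((j + 2).factorial : ℤ) * f m - e * (m : ℤ) ^ (j + 2)) +
            (j + 2) * (((j + 1).factorial : ℤ) * g (m + 1) - e * ((m + 1 : ℕ) : ℤ) ^ (j + 1)) +
            e * u (j + 1) ((m : ℤ) + 1) := by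
          rw [hf, hu, hfac]; push_cast; ring
        rw [hdecomp]
        have h3 : |((j + 2 : ℤ)) * (((j + 1).factorial : ℤ) * g (m + 1) - e * ((m + 1 : ℕ) : ℤ) ^ (j + 1))| ≤
            (j + 2) * (C * (((m + 1 : ℕ) : ℤ) + 1) ^ j) := by
          rw [abs_mul, abs_of_nonneg (by positivity : (0 : ℤ) ≤ (j + 2 : ℤ))]
          gcongr
        have h4 : |e * u (j + 1) ((m : ℤ) + 1)| ≤ |e| * (K * (((m + 1 : ℕ) : ℤ) + 1) ^ j) := by
          rw [abs_mul]
          gcongr
          refine h2.trans ?_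
          gcongr
          push_cast; omega
        have h5 : ((m : ℤ) + 1) ^ j ≤ (((m + 1 : ℕ) : ℤ) + 1) ^ j := by
          gcongr; push_cast; omega
        calc _ ≤ |((j + 2).factorial : ℤ) * f m - e * (m : ℤ) ^ (j + 2)| +
              |((j + 2 : ℤ)) * (((j + 1).factorial : ℤ) * g (m + 1) - e * ((m + 1 : ℕ) : ℤ) ^ (j + 1))| +
              |e * u (j + 1) ((m : ℤ) + 1)| := abs_add_three _ _ _
          _ ≤ (((j + 2).factorial : ℤ) * |f 0| + D * m * ((m : ℤ) + 1) ^ j) +
              (j + 2) * (C * (((m + 1 : ℕ) : ℤ) + 1) ^ j) + |e| * (K * (((m + 1 : ℕ) : ℤ) + 1) ^ j) := by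
            gcongr
          _ ≤ (((j + 2).factorial : ℤ) * |f 0| + D * m * (((m + 1 : ℕ) : ℤ) + 1) ^ j) +
              (j + 2) * (C * (((m + 1 : ℕ) : ℤ) + 1) ^ j) + |e| * (K * (((m + 1 : ℕ) : ℤ) + 1) ^ j) := by
            gcongr
          _ = _ := by
            simp only [D]; push_cast; ring
    refine ⟨((j + 2).factorial * (f 0).natAbs + D.toNat), fun m => (key m).trans ?_⟩
    have h6 : (1 : ℤ) ≤ ((m : ℤ) + 1) ^ (j + 1) := one_le_pow₀ (by omega)
    have h7 : (D.toNat : ℤ) = D := Int.toNat_of_nonneg hD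
    push_cast
    rw [h7]
    calc ((j + 2).factorial : ℤ) * |f 0| + D * m * ((m : ℤ) + 1) ^ j ≤
        ((j + 2).factorial : ℤ) * |f 0| * ((m : ℤ) + 1) ^ (j + 1) + D * ((m : ℤ) + 1) * ((m : ℤ) + 1) ^ j :=
          add_le_add (le_mul_of_one_le_right (by positivity) h6)
            (mul_le_mul_of_nonneg_right (mul_le_mul_of_nonneg_left (by omega) hD) (by positivity))
      _ = _ := by ring

end K931.NumGrowth
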