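import Groth.Agent.PosLin.K931.Descend
import Groth.Agent.CohqB.AmpGeneric
import Groth.Agent.VarietyA.AmpleField
import Groth.Agent.S1297
import Groth.Agent.S1340
import Groth.Agent.VarietyB.ProjSpaceProper
import Groth.Agent.PosLin.K931.Basic

/-!
# The semiample fibration
-/

set_option autoImplicit false
universe u

open CategoryTheory CategoryTheory.Limits AlgebraicGeometry Opposite TopologicalSpace

namespace K931.Semiample

open Groth.Agent Groth.Agent.Fdesc.LocGen Groth.Agent.Grpsch.PicGrp K931.Eff K931.Descend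

variable {X Y : Scheme.{u}}

theorem isIntegral_of_bijective [IsIntegral X] (f : X ⟶ Y) [IsDominant f]
    (hf : ∀ U : Y.Opens, Function.Bijective (f.app U)) : IsIntegral Y where
  nonempty := ⟨f (Classical.arbitrary X)⟩
  component_integral U hU := by
    have : Nonempty (f ⁻¹ᵁ U : X.Opens) := by
      obtain ⟨⟨y, hy⟩⟩ := hU
      obtain ⟨_, hx, ⟨x, rfl⟩⟩ := f.denseRange.inter_open_nonempty U U.isOpen ⟨y, hy⟩
      exact ⟨⟨x, hx⟩⟩
    exact Function.Injective.isDomain (f.app U).hom (hf U).1

theorem exists_fibration {k : Type u} [Field k] [X.Over (Spec (CommRingCat.of k))] [IsIntegral X]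
    [IsProper (X ↘ Spec (CommRingCat.of k))]
    (L : X.Modules) (hL : PicF.IsInvertible L)
    (hsa : ∃ m : ℕ, 0 < m ∧ Curv2.IsGloballyGenerated (CohB1.tensorPow L m)) :
    ∃ (Y : Scheme.{u}) (g : Y ⟶ Spec (CommRingCat.of k)) (HY : Y.Modules) (φ : X ⟶ Y),
      IsIntegral Y ∧ IsProper g ∧ CohB1.IsAmple HY ∧
      φ ≫ g = X ↘ Spec (CommRingCat.of k) ∧ Surjective φ ∧ IsIso (ClSub.unitToPush φ) ∧
      ∀ m : ℕ, 0 < m → Curv2.IsGloballyGenerated (CohB1.tensorPow L m) →
        ∃ A : Y.Modules, CohB1.IsAmple A ∧ Nonempty ((Scheme.Modules.pullback φ).obj A ≅ CohB1.tensorPow L m) := by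
  obtain ⟨m₀, hm₀, hg₀⟩ := hsa
  have := Basic.compactSpace k X
  obtain ⟨n, r, hr, ⟨τ⟩⟩ := Descend.exists_map (X ↘ Spec (CommRingCat.of k))
    (isInvertible_tensorPow hL m₀) hg₀
  have : IsProper (r ≫ CohB1.ProjSpace.toSpec n k) := by rw [hr]; infer_instance
  have : IsProper (CohB1.ProjSpace.toSpec n k) := inferInstance
  have : IsProper r := .of_comp r (CohB1.ProjSpace.toSpec n k)
  have : IsLocallyNoetherian (CohB1.ProjSpace n k) :=
    LocallyOfFiniteType.isLocallyNoetherian (CohB1.ProjSpace.toSpec n k)
  have hfin : IsFinite r.fromNormalization := S1297.result r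
  have hφ : ∀ U : r.normalization.Opens, Function.Bijective (r.toNormalization.app U) := fun U => by
    have := S1340.result r U
    exact (ConcreteCategory.isIso_iff_bijective _).mp this
  have hint : IsIntegral r.normalization := isIntegral_of_bijective r.toNormalization hφ
  have hprop : IsProper r.toNormalization := by
    have : IsProper (r.toNormalization ≫ r.fromNormalization) := by
      rw [r.toNormalization_fromNormalization]; infer_instance
    exact .of_comp r.toNormalization r.fromNormalization
  have hsurj : Surjective r.toNormalization := by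
    refine ⟨?_⟩
    rw [← Set.range_eq_univ, ← (r.toNormalization.isClosedMap.isClosed_range).closure_eq]
    exact r.toNormalization.denseRange.closure_range
  have hY : IsProper (r.fromNormalization ≫ CohB1.ProjSpace.toSpec n k) := inferInstance
  have hA₀ : CohB1.IsAmple ((Scheme.Modules.pullback r.fromNormalization).obj
      (Twist.twistProjSpace n k 1)) :=
    CohqB.AmpCocycle.isAmple_pullback _ (VarietyA.AmpleField.isAmple_twistProjSpace n k)
  have hcY : CompactSpace r.normalization := hA₀.2.1
  have hsY : r.normalization.IsSeparated := by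
    rw [Scheme.isSeparated_iff, ← terminal.comp_from (r.fromNormalization ≫ CohB1.ProjSpace.toSpec n k),
      IsSeparated.comp_iff]
    infer_instance
  refine ⟨r.normalization, r.fromNormalization ≫ CohB1.ProjSpace.toSpec n k, _, r.toNormalization,
    hint, hY, hA₀, ?_, hsurj, UnitInv.isIso_unitToPush_of_bijective _ hφ, ?_⟩
  · rw [← Category.assoc, r.toNormalization_fromNormalization, hr]
  · intro m hm hg
    have hinv := hA₀.1
    have hp : pull r.toNormalization (mk _ hinv) = (mk L hL) ^ m₀ := by
      rw [← pull_mk (hL := (VarietyA.AmpleField.isAmple_twistProjSpace n k).1), ← pull_comp,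
        r.toNormalization_fromNormalization, pull_mk, ← mk_tensorPow]
      exact (mk_eq_iff _ _).mpr ⟨τ⟩
    have hB := isInvertible_tensorPow hinv m
    have hM := isInvertible_tensorPow hL m
    obtain ⟨e⟩ : Nonempty ((Scheme.Modules.pullback r.toNormalization).obj (CohB1.tensorPow _ m) ≅
        CohB1.tensorPow (CohB1.tensorPow L m) m₀) := by
      rw [← mk_eq_iff (isInvertible_pullback _ hB) (isInvertible_tensorPow hM m₀), ← pull_mk (hL := hB),
        mk_tensorPow hM, mk_tensorPow hL, mk_tensorPow hinv, map_pow, hp, ← pow_mul, ← pow_mul, mul_comm]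
    obtain ⟨A, hA, ⟨ψ⟩⟩ := exists_descent r.toNormalization hφ hM hg hm₀ hB e
    refine ⟨A, ?_, ⟨ψ⟩⟩
    rw [← amp_mk hA]
    refine amp_of_pow hm₀ ?_
    have : (mk A hA) ^ m₀ = (mk _ hinv) ^ m := by
      refine pull_injective r.toNormalization hφ ?_
      have h1 : pull r.toNormalization (mk A hA) = (mk L hL) ^ m := by
        rw [pull_mk, ← mk_tensorPow hL]
        exact mk_congr ψ
      rw [map_pow, map_pow, hp, h1, ← pow_mul, ← pow_mul, mul_comm]
    rw [this]
    exact ((amp_mk hinv).mpr hA₀).pow hm

end K931.Semiample
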