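import Groth.Agent.PosLin.K931.Coef
import Groth.Agent.PosLin.K931.MulSurj
import Groth.Agent.VarietyB.GlobGen
import Groth.Agent.VarietyA.TwistExist

/-!
# Global generation from a Veronese ring generated in degree one
-/

set_option autoImplicit false
universe u

open CategoryTheory CategoryTheory.Limits AlgebraicGeometry Opposite TopologicalSpace

namespace K931.Veronese

open Groth.Agent Groth.Agent.Fdesc.LocGen Groth.Agent.Ega2 Groth.Agent.Ega2.TensPow K931.Coef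
open scoped TensorProduct

variable {X : Scheme.{u}}

section Vanish

variable {x : X} {U : X.Opens} (hx : x ∈ U)

theorem le_tmulLin {N N' : X.Modules} {e : Γ(N, U)} (he : IsGen e) {e' : Γ(N', U)} (he' : IsGen e')
    (v : X.presheaf.stalk x → ℕ∞) (hmul : ∀ a b, v (a * b) = v a + v b)
    (hadd : ∀ a b, min (v a) (v b) ≤ v (a + b)) (h0 : v 0 = ⊤) {c c' : ℕ∞}
    (h : ∀ a, c ≤ v (cf hx he a)) (h' : ∀ b, c' ≤ v (cf hx he' b)) (z : Γ(N, ⊤) ⊗[Γ(X, ⊤)] Γ(N', ⊤)) :
    c + c' ≤ v (cf hx (he.tmul he') (tmulLin N N' ⊤ z)) := by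
  induction z using TensorProduct.induction_on with
  | zero => rw [map_zero, cf_zero, h0]; exact le_top
  | tmul a b =>
    have h1 : cf hx (he.tmul he') (tmulLin N N' ⊤ (a ⊗ₜ b)) = cf hx he a * cf hx he' b := cf_tmul hx he he' a b
    rw [h1, hmul]
    exact add_le_add (h a) (h' b)
  | add a b ha hb =>
    rw [map_add, cf_add]
    exact (le_min ha hb).trans (hadd _ _)

/-- If all sections of `M` vanish at `x` and the Veronese ring is generated in degree one, sections of `M^k`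
vanish to order at least `k`. -/
theorem le_val [IsIntegral X] {M : X.Modules} {e : Γ(M, U)} (he : IsGen e)
    (hno : ∀ s : Coh.structureModule X ⟶ M, x ∉ CohB1.genLocus M s)
    (hgen : ∀ k : ℕ, 0 < k → Function.Surjective
      ((toSheafify (Opens.grothendieckTopology X)
        (CohB1.tensorPre (CohB1.tensorPow M k) M).presheaf).app (Opposite.op ⊤)))
    (v : X.presheaf.stalk x → ℕ∞) (hmul : ∀ a b, v (a * b) = v a + v b)
    (hadd : ∀ a b, min (v a) (v b) ≤ v (a + b)) (h0 : v 0 = ⊤)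
    (hm : ∀ a ∈ IsLocalRing.maximalIdeal (X.presheaf.stalk x), 1 ≤ v a) (k : ℕ) (hk : 0 < k)
    (t : Γ(CohB1.tensorPow M k, ⊤)) : (k : ℕ∞) ≤ v (cf hx (he.pow k) t) := by
  have hM : ∀ b : Γ(M, ⊤), 1 ≤ v (cf hx he b) := fun b => by
    refine hm _ ((IsLocalRing.mem_maximalIdeal _).mpr fun h => ?_)
    exact hno _ ((isUnit_cf_iff hx he b).mp h)
  obtain ⟨k, rfl⟩ : ∃ j, k = j + 1 := ⟨k - 1, by omega⟩
  clear hk
  induction k with
  | zero =>
    have h1 : cf hx he ((powOne M).hom.app ⊤ t) = cf hx (he.pow 1) t :=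
      cf_iso hx (he.pow 1) he (powOne M).hom (powOne_pow e) t
    change ((1 : ℕ) : ℕ∞) ≤ _
    rw [Nat.cast_one]
    exact le_of_le_of_eq (hM _) (congrArg v h1)
  | succ k ih =>
    obtain ⟨z, hz⟩ := hgen (k + 1) k.succ_pos t
    have hz' : tmulLin (CohB1.tensorPow M (k + 1)) M ⊤ z = t := hz
    have h1 := le_tmulLin hx (he.pow (k + 1)) he v hmul hadd h0 ih hM z
    rw [hz'] at h1
    refine le_trans (le_of_eq ?_) h1
    push_cast
    rfl

/-- Construction of a section of `(L^n)^K` with small order of vanishing. -/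
theorem exists_sec {L A : X.Modules} {e : Γ(L, U)} (he : IsGen e) {eA : Γ(A, U)} (heA : IsGen eA)
    {m₁ : ℕ} (φ : A ⟶ CohB1.tensorPow L m₁) {g : Γ(X, U)} (hg : φ.app U eA = g • pow e m₁) (q m n : ℕ)
    (s : Coh.structureModule X ⟶ CohB1.tensorPow (CohB1.tensorMod (CohB1.tensorPow L q) A) (m + 1))
    (hs : x ∈ CohB1.genLocus _ s) :
    ∃ (t : Γ(CohB1.tensorPow (CohB1.tensorPow L n) ((q + m₁) * (m + 1)), ⊤)) (u : X.presheaf.stalk x),
      IsUnit u ∧ cf hx ((he.pow n).pow ((q + m₁) * (m + 1))) t =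
        (u * X.presheaf.germ U x hx g ^ (m + 1)) ^ n := by
  let N := CohB1.tensorMod (CohB1.tensorPow L q) A
  let eN : Γ(N, U) := tmul (pow e q) eA
  have heN : IsGen eN := (he.pow q).tmul heA
  let ψ : N ⟶ CohB1.tensorPow L (q + m₁) := Tens.mapT (𝟙 _) φ ≫ (powAdd L q m₁).hom
  have hψ : ψ.app U eN = g • pow e (q + m₁) := by
    have h1 : ψ.app U eN = (powAdd L q m₁).hom.app U ((Tens.mapT (𝟙 _) φ).app U (tmul (pow e q) eA)) := rfl
    rw [h1, mapT_tmul, hg]
    have h2 : (𝟙 (CohB1.tensorPow L q) : _ ⟶ _).app U (pow e q) = pow e q := rfl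
    rw [h2, tmul_smul, Scheme.Modules.Hom.app_smul, powAdd_pow]
  let t₀ : Γ(CohB1.tensorPow N (m + 1), ⊤) := sec s ⊤
  have hu : IsUnit (cf hx (heN.pow (m + 1)) t₀) := by
    rw [isUnit_cf_iff, homOf_sec]; exact hs
  let t₁ := (powMap ψ (m + 1)).app ⊤ t₀
  have h1 : cf hx ((he.pow (q + m₁)).pow (m + 1)) t₁ =
      cf hx (heN.pow (m + 1)) t₀ * X.presheaf.germ U x hx g ^ (m + 1) := by
    rw [← map_pow]
    refine cf_map hx (heN.pow (m + 1)) _ (powMap ψ (m + 1)) ?_ t₀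
    rw [powMap_pow, hψ, smul_pow]
  let t₂ : Γ(CohB1.tensorPow L ((q + m₁) * (m + 1)), ⊤) := (powMul L (q + m₁) (m + 1)).hom.app ⊤ t₁
  have h2 : cf hx (he.pow ((q + m₁) * (m + 1))) t₂ = cf hx ((he.pow (q + m₁)).pow (m + 1)) t₁ :=
    cf_iso hx _ _ (powMul L (q + m₁) (m + 1)).hom (powMul_pow _ _ _) t₁
  let t₃ := pow t₂ n
  have h3 : cf hx ((he.pow ((q + m₁) * (m + 1))).pow n) t₃ = cf hx (he.pow ((q + m₁) * (m + 1))) t₂ ^ n :=
    cf_pow hx _ t₂ n
  let E : CohB1.tensorPow (CohB1.tensorPow L ((q + m₁) * (m + 1))) n ≅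
      CohB1.tensorPow (CohB1.tensorPow L n) ((q + m₁) * (m + 1)) :=
    powMul L ((q + m₁) * (m + 1)) n ≪≫ powCongr L (mul_comm _ _) ≪≫ (powMul L n ((q + m₁) * (m + 1))).symm
  have hE : E.hom.app U (pow (pow e ((q + m₁) * (m + 1))) n) = pow (pow e n) ((q + m₁) * (m + 1)) := by
    have h4 : E.hom.app U (pow (pow e ((q + m₁) * (m + 1))) n) =
        (powMul L n ((q + m₁) * (m + 1))).inv.app U ((powCongr L (mul_comm _ _)).hom.app U
          ((powMul L ((q + m₁) * (m + 1)) n).hom.app U (pow (pow e ((q + m₁) * (m + 1))) n))) := rfl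
    rw [h4, powMul_pow, powCongr_pow, ← powMul_pow, symm_app_app]
  refine ⟨E.hom.app ⊤ t₃, _, hu, ?_⟩
  rw [cf_iso hx ((he.pow ((q + m₁) * (m + 1))).pow n) _ E.hom hE t₃, h3, h2, h1]

end Vanish

theorem globGen_of_veronese [IsIntegral X] [IsLocallyNoetherian X] {L A : X.Modules} (hL : PicF.IsInvertible L)
    (hA : PicF.IsInvertible A) {m₁ : ℕ} (hm₁ : 0 < m₁) (φ : A ⟶ CohB1.tensorPow L m₁) [Mono φ]
    (hq : ∀ (q : ℕ) (x : X), ∃ (m : ℕ)
      (s : Coh.structureModule X ⟶ CohB1.tensorPow (CohB1.tensorMod (CohB1.tensorPow L q) A) (m + 1)),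
      x ∈ CohB1.genLocus _ s)
    {n : ℕ} (s₀ : Coh.structureModule X ⟶ CohB1.tensorPow L n) (hs₀ : s₀ ≠ 0)
    (hgen : ∀ k : ℕ, 0 < k → Function.Surjective
      ((toSheafify (Opens.grothendieckTopology X)
        (CohB1.tensorPre (CohB1.tensorPow (CohB1.tensorPow L n) k) (CohB1.tensorPow L n)).presheaf).app
        (Opposite.op ⊤))) :
    Curv2.IsGloballyGenerated (CohB1.tensorPow L n) := by
  by_contra hcon
  have hM := isInvertible_tensorPow hL n
  obtain ⟨x, hno⟩ : ∃ x : X, ∀ s : Coh.structureModule X ⟶ CohB1.tensorPow L n,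
      x ∉ CohB1.genLocus _ s := by
    by_contra h
    push Not at h
    refine hcon (VarietyB.GlobGen.isGloballyGenerated_of_cover (κ := Coh.structureModule X ⟶ CohB1.tensorPow L n)
      (fun s => s) h)
  obtain ⟨U₁, e₁, hx₁, he₁⟩ := (isInvertible_iff L).mp hL x
  obtain ⟨U₂, e₂, hx₂, he₂⟩ := (isInvertible_iff A).mp hA x
  let U := U₁ ⊓ U₂
  have hx : x ∈ U := ⟨hx₁, hx₂⟩
  let e : Γ(L, U) := res L inf_le_left e₁
  have he : IsGen e := he₁.res _
  let eA : Γ(A, U) := res A inf_le_right e₂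
  have heA : IsGen eA := he₂.res _
  obtain ⟨g, hg⟩ := (he.pow m₁).exists_eq (φ.app U eA)
  have hUne : Nonempty U := ⟨⟨x, hx⟩⟩
  have hg0 : X.presheaf.germ U x hx g ≠ 0 := by
    intro h0
    have h1 : g = 0 := by
      refine (map_eq_zero_iff _ (germ_injective_of_isIntegral X (U := U) x hx)).mp h0
    rw [h1, zero_smul] at hg
    have h2 : eA = 0 := VarietyB.ExactLoc.app_injective_of_mono φ U (hg.trans (map_zero _).symm)
    have h3 : (1 : Γ(X, U)) = 0 := heA.ext (by rw [one_smul, zero_smul, h2])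
    exact one_ne_zero h3
  have hfield : ¬ IsField (X.presheaf.stalk x) := by
    intro hF
    obtain ⟨a, ha, ha'⟩ := exists_cf hx (he.pow n) (sec s₀ ⊤)
    have h1 : CohB1.genLocus _ s₀ ⊓ U = X.basicOpen a :=
      genLocus_inf_eq s₀ (he.pow n) ((res_sec s₀ (le_top : U ≤ ⊤)).symm.trans ha)
    have h2 : X.presheaf.germ U x hx a = 0 := by
      by_contra h2
      have h3 : IsUnit (cf hx (he.pow n) (sec s₀ ⊤)) := by
        rw [ha']
        letI := hF.toField
        exact IsUnit.mk0 _ h2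
      rw [isUnit_cf_iff, homOf_sec] at h3
      exact hno s₀ h3
    have h3 : a = 0 := (map_eq_zero_iff _ (germ_injective_of_isIntegral X (U := U) x hx)).mp h2
    rw [h3, Scheme.basicOpen_zero] at h1
    obtain ⟨y, hy⟩ := nonempty_preirreducible_inter (CohB1.genLocus _ s₀).isOpen U.isOpen
      (VarietyA.TwistExist.genLocus_nonempty hM s₀ hs₀) ⟨x, hx⟩
    have h4 : y ∈ CohB1.genLocus _ s₀ ⊓ U := hy
    rw [h1] at h4
    exact h4
  obtain ⟨v, hmul, hadd, htop, hunit, hmax⟩ := exists_val (X.presheaf.stalk x) hfield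
  have hle := le_val hx (he.pow n) hno hgen v hmul hadd ((htop 0).mpr rfl) hmax
  have hvg : v (X.presheaf.germ U x hx g) ≠ ⊤ := fun h => hg0 ((htop _).mp h)
  obtain ⟨w, hw⟩ := ENat.ne_top_iff_exists.mp hvg
  obtain ⟨m, s, hs⟩ := hq (n * w) x
  obtain ⟨t, c, hc, ht⟩ := exists_sec hx he heA φ hg (n * w) m n s hs
  have h1 := hle ((n * w + m₁) * (m + 1)) (by positivity) t
  have hpow : ∀ (a : X.presheaf.stalk x) (j : ℕ), v (a ^ j) = j * v a := by
    intro a j
    induction j with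
    | zero => rw [pow_zero, hunit 1 isUnit_one]; simp
    | succ j ih => rw [pow_succ, hmul, ih]; push_cast; ring
  rw [ht, hpow, hmul, hpow, hunit c hc, ← hw, zero_add] at h1
  have h2 : (n * w + m₁) * (m + 1) ≤ n * ((m + 1) * w) := by exact_mod_cast h1
  nlinarith

end K931.Veronese
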