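import Groth.Agent.PosLin.K931.Veronese
import Groth.Agent.PosLin.K931.Basic
import Groth.Agent.Vanish.K909.NefIff
import Groth.Agent.EtpbcA.CdFinDim

/-!
# Nef and big modules with Veronese ring generated in degree one are globally generated
-/

set_option autoImplicit false
universe u

open CategoryTheory CategoryTheory.Limits AlgebraicGeometry Opposite TopologicalSpace

namespace K931.Veronese

open Groth.Agent

theorem globGen_of_nef_big {k : Type u} [Field k] (nak : K909.Kleiman.Nak.{u} k) (X : Scheme.{u})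
    [X.Over (Spec (CommRingCat.of k))] [IsIntegral X] [IsProper (X ↘ Spec (CommRingCat.of k))]
    (H : X.Modules) (hH : CohB1.IsAmple H) (L : X.Modules) (hL : PicF.IsInvertible L)
    (hnef : K909.Kleiman.Nef k X L)
    (hbig : ∀ A : X.Modules, CohB1.IsAmple A → ∃ (m : ℕ) (φ : A ⟶ CohB1.tensorPow L m), 0 < m ∧ Mono φ)
    (n : ℕ) (hsec : Nontrivial (Coh.HH X (CohB1.tensorPow L n) 0))
    (hgen : ∀ k : ℕ, 0 < k → Function.Surjective
      ((toSheafify (Opens.grothendieckTopology X)
        (CohB1.tensorPre (CohB1.tensorPow (CohB1.tensorPow L n) k) (CohB1.tensorPow L n)).presheaf).app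
        (Opposite.op ⊤))) :
    Curv2.IsGloballyGenerated (CohB1.tensorPow L n) := by
  have := Basic.isLocallyNoetherian k X
  obtain ⟨d, hd⟩ := EtpbcA.CdFinDim.exists_dim_le (X ↘ Spec (CommRingCat.of k))
  obtain ⟨m₁, φ, hm₁, hφ⟩ := hbig H hH
  obtain ⟨s₀, hs₀⟩ := (Basic.nontrivial_H0_iff _).mp hsec
  refine globGen_of_veronese hL hH.1 hm₁ φ (fun q x => ?_) s₀ hs₀ hgen
  obtain ⟨m, s, hs, _⟩ := (K909.Kleiman.isAmple_tensorPow_tensor k nak X d hd L H hnef hL hH q).2.2 x
  exact ⟨m, s, hs⟩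

end K931.Veronese
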