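import Groth.Agent.AdjLin.K800.Crit
import Groth.Agent.PosLin.K931.Eff
import Groth.Agent.PosLin.K931.Coef
import Groth.Agent.PosLin.K931.NakC
import Groth.Agent.Models.H38.SecDiv
import Groth.Agent.Vanish.K909.Fujita
import Groth.Agent.Vanish.K909.NefTens

/-!
# Uniform global generation and Wilson's theorem, from Fujita's vanishing theorem

* `gg_of_mulSurj`: if `H⁰(M) ⊗ H⁰(N) → H⁰(M ⊗ N)` is onto and `M ⊗ N` globally generated, so is `M`.
* `exists_gg`: from `VanGe 𝒩 H O_X 1`: some `N ⊗ H^q`, `q > 0`, is globally generated for all `N ∈ 𝒩`.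
* `wilson`: `L` nef and big: some `L^m(-D)`, `D` effective fixed, is globally generated for `m` large.
-/

set_option autoImplicit false
universe u

open CategoryTheory CategoryTheory.Limits AlgebraicGeometry Opposite TopologicalSpace

namespace K931.Wilson

open Groth.Agent Groth.Agent.Fdesc.LocGen Groth.Agent.Fga.PicMon Groth.Agent.Ega2 K931.Coef
open K800.Cls K800.Crit K800.MulMap

variable {X : Scheme.{u}}

theorem gg_of_mulSurj {M N : X.Modules} (hM : PicF.IsInvertible M) (hN : PicF.IsInvertible N)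
    (h : MulSurj M N) (hg : Curv2.IsGloballyGenerated (CohB1.tensorMod M N)) : Curv2.IsGloballyGenerated M := by
  refine VarietyB.GlobGen.isGloballyGenerated_of_cover (κ := ULift.{u} Γ(M, ⊤)) (fun s => homOf s.down) fun x => ?_
  obtain ⟨w, hw⟩ := Ega1.GlobGenPt.exists_mem_genLocus (isInvertible_tensorMod hM hN) hg x
  obtain ⟨U₁, e₁, hx₁, he₁⟩ := (isInvertible_iff M).1 hM x
  obtain ⟨U₂, e₂, hx₂, he₂⟩ := (isInvertible_iff N).1 hN x
  have hx : x ∈ U₁ ⊓ U₂ := ⟨hx₁, hx₂⟩
  have he := he₁.res (inf_le_left : U₁ ⊓ U₂ ≤ U₁)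
  have he' := he₂.res (inf_le_right : U₁ ⊓ U₂ ≤ U₂)
  have hunit : IsUnit (cf hx (he.tmul he') (sec w ⊤)) := by
    rw [isUnit_cf_iff, homOf_sec]; exact hw
  by_contra hcon
  push Not at hcon
  have hmem : ∀ t ∈ prods M N, cf hx (he.tmul he') t ∈ IsLocalRing.maximalIdeal (X.presheaf.stalk x) := by
    intro t ht
    induction ht using AddSubgroup.closure_induction with
    | mem t ht =>
      obtain ⟨m, n, rfl⟩ := ht
      have h2 : cf hx (he.tmul he') (Tens.tmul m n) = cf hx he m * cf hx he' n := cf_tmul hx he he' m n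
      rw [h2]
      refine Ideal.mul_mem_right _ _ ?_
      rw [IsLocalRing.mem_maximalIdeal, mem_nonunits_iff, isUnit_cf_iff]
      exact hcon ⟨m⟩
    | zero => rw [cf_zero]; exact Ideal.zero_mem _
    | add s t _ _ hs ht => rw [cf_add]; exact Ideal.add_mem _ hs ht
    | neg t _ ht =>
      have h1 := cf_add hx (he.tmul he') (-t) t
      rw [neg_add_cancel, cf_zero] at h1
      rw [eq_neg_of_add_eq_zero_left h1.symm]
      exact Submodule.neg_mem _ ht
  exact (IsLocalRing.mem_maximalIdeal _).mp (hmem _ (h (sec w ⊤))) hunit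

theorem gg_of_ms {a b : P X} (h : MS a b) (hg : GG (a + b)) : GG a := by
  have hM := rep_inv a
  have hN := rep_inv b
  rw [gg_iff (rep_add a b)] at hg
  exact gg_of_mulSurj hM hN h hg

theorem van_of_mc {a : P X} {L : X.Modules} (hL : PicF.IsInvertible L) (h : a = cl L hL) {i : ℕ}
    (hi : Subsingleton (Coh.HH X L i)) : Van a i := (van_iff (rep_iso h) i).mpr hi

variable (k : Type u) [Field k] [X.Over (Spec (CommRingCat.of k))] [IsProper (X ↘ Spec (CommRingCat.of k))]

include k in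
theorem exists_gg {H : X.Modules} (hH : CohB1.IsAmple H) {𝒩 : X.Modules → Prop}
    (hF : K909.Fujita.VanGe 𝒩 H (Coh.structureModule X) 1) :
    ∃ q : ℕ, 0 < q ∧ ∀ N : X.Modules, PicF.IsInvertible N → 𝒩 N →
      Curv2.IsGloballyGenerated (CohB1.tensorMod N (CohB1.tensorPow H q)) := by
  have hNoeth : IsNoetherian X := VarietyA.TwistExist.isNoetherian k X
  have hsep : X.IsSeparated := Fga.HypSec.isSeparated k X
  obtain ⟨D, hD⟩ := EtpbcA.CdFinDim.exists_dim_le (X ↘ Spec (CommRingCat.of k))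
  obtain ⟨p₀, hp₀⟩ := hF
  obtain ⟨n₀, hn₀, hgg⟩ := S2329.result X H (Coh.structureModule X) hH isInvertible_structureModule
  obtain ⟨p₁, hp₁, h1, h2⟩ : ∃ p₁, p₀ ≤ p₁ ∧ 0 < p₁ ∧ n₀ ≤ p₁ := ⟨p₀ + n₀, by omega, by omega, by omega⟩
  set b : P X := cl (CohB1.tensorPow H p₁) (isInvertible_tensorPow hH.1 p₁) with hb
  have hbH : b = p₁ • cl H hH.1 := cl_pow hH.1 p₁ _
  have hbg : GG b := by
    rw [gg_iff (rep_iso hb)]
    exact isGloballyGenerated_of_iso (Tens.runit _) (hgg p₁ h2).2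
  refine ⟨p₁ * (D + 1), by positivity, fun N hN hn => ?_⟩
  have hcl : ∀ j : ℕ, cl (CohB1.tensorMod N (CohB1.tensorPow H j)) (isInvertible_tensorMod hN
      (isInvertible_tensorPow hH.1 j)) = cl N hN + j • cl H hH.1 := fun j => by
    rw [cl_tensor hN (isInvertible_tensorPow hH.1 j), cl_pow hH.1 j]
  set a : P X := cl (CohB1.tensorMod N (CohB1.tensorPow H (p₁ * (D + 1)))) (isInvertible_tensorMod hN
      (isInvertible_tensorPow hH.1 _)) with ha
  have haH : a = cl N hN + (D + 1) • b := by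
    rw [ha, hcl, hbH, smul_smul, mul_comm]
  rw [← gg_iff (rep_iso ha)]
  have hms : ∀ n : ℕ, MS a (n • b) := fun n => MS.nsmul n fun j _ =>
    ms_of_van k D (fun F => Fga.EulerLEAdd.subsingleton_HH X D hD _ _ (by omega)) hbg fun i hi hiD => by
      have e1 : a + j • b - i • b = cl (CohB1.tensorMod N (CohB1.tensorPow H (p₁ * (D + 1 + j - i))))
          (isInvertible_tensorMod hN (isInvertible_tensorPow hH.1 _)) := by
        rw [hcl, haH, hbH]
        obtain ⟨t, ht⟩ : ∃ t, D + 1 + j = i + t := ⟨D + 1 + j - i, by omega⟩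
        rw [ht, Nat.add_sub_cancel_left, mul_comm p₁ t, mul_smul, add_assoc, ← add_smul, ht, add_smul]
        abel
      refine van_of_mc _ e1 ?_
      have h3 := hp₀ N hN hn (p₁ * (D + 1 + j - i)) (by
        have : 1 ≤ D + 1 + j - i := by omega
        nlinarith) i hi
      exact Pic13.H946.CoreGood.hh_congr (by simp only [mc_tensor, mc_one, one_mul]) h3
  -- twisting makes it globally generated
  obtain ⟨m₀, hm₀, hm⟩ := S2329.result X H (CohB1.tensorMod N (CohB1.tensorPow H (p₁ * (D + 1)))) hH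
    (isInvertible_tensorMod hN (isInvertible_tensorPow hH.1 _))
  refine gg_of_ms (hms m₀) ?_
  have e2 : a + m₀ • b = cl (CohB1.tensorMod (CohB1.tensorPow H (p₁ * m₀))
      (CohB1.tensorMod N (CohB1.tensorPow H (p₁ * (D + 1)))))
      (isInvertible_tensorMod (isInvertible_tensorPow hH.1 _) (isInvertible_tensorMod hN
      (isInvertible_tensorPow hH.1 _))) := by
    rw [cl_tensor (isInvertible_tensorPow hH.1 _) (isInvertible_tensorMod hN (isInvertible_tensorPow hH.1 _)), ← ha,
      cl_pow hH.1, hbH, smul_smul, mul_comm m₀, add_comm]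
  rw [gg_iff (rep_iso e2)]
  exact (hm (p₁ * m₀) (by nlinarith)).2

/-- The divisor of a nonzero section on an integral scheme. -/
theorem exists_divisor [IsIntegral X] {M : X.Modules} (hM : PicF.IsInvertible M) (s : Coh.structureModule X ⟶ M)
    (hs : s ≠ 0) : ∃ D : X.IdealSheafData, BlowUp.IsEffCartierIdeal D ∧ ClSub.IsInverseOf M (ClSub.idealMod D) := by
  obtain ⟨D, hD, hD', -⟩ := Models.H38.SecDiv.exists_divisor hM (sec s ⊤) (by
    intro U e a he hres
    rcases isEmpty_or_nonempty U.1 with hU | ⟨⟨y, hy⟩⟩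
    · have : Subsingleton Γ(X, U.1) := by
        have : U.1 = ⊥ := by
          ext z
          simp only [SetLike.mem_coe, Opens.mem_bot, iff_false]
          exact fun hz => hU.false ⟨z, hz⟩
        rw [this]
        infer_instance
      exact mem_nonZeroDivisors_iff.mpr ⟨fun _ _ => Subsingleton.elim _ _, fun _ _ => Subsingleton.elim _ _⟩
    · have : Nonempty U.1 := ⟨⟨y, hy⟩⟩
      refine mem_nonZeroDivisors_of_ne_zero ?_
      rintro rfl
      obtain ⟨x, hx1, hx2⟩ := CurvesB.RankOne.inf_nonempty (VarietyA.TwistExist.genLocus_nonempty hM s hs)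
        (V := U.1) ⟨y, hy⟩
      have h1 : IsUnit (cf hx2 he (sec s ⊤)) := by rw [isUnit_cf_iff, homOf_sec]; exact hx1
      rw [cf_eq hx2 he hres, map_zero] at h1
      exact not_isUnit_zero h1)
  exact ⟨D, hD, hD'⟩

/-- **Wilson's theorem**, from Fujita's vanishing theorem for the nef modules. -/
theorem wilson [IsIntegral X] {H : X.Modules} (hH : CohB1.IsAmple H)
    (hF : K909.Fujita.VanGe (K909.Kleiman.Nef k X) H (Coh.structureModule X) 1)
    {L : X.Modules} (hL : PicF.IsInvertible L) (hnef : K909.Kleiman.Nef k X L)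
    (hbig : ∀ A : X.Modules, CohB1.IsAmple A → ∃ (m : ℕ) (φ : A ⟶ CohB1.tensorPow L m), 0 < m ∧ Mono φ) :
    ∃ (I : X.IdealSheafData) (m₀ : ℕ), PicF.IsInvertible (ClSub.idealMod I) ∧
      ∀ m : ℕ, m₀ < m → Curv2.IsGloballyGenerated (CohB1.tensorMod (CohB1.tensorPow L m) (ClSub.idealMod I)) := by
  have hNoeth : IsNoetherian X := VarietyA.TwistExist.isNoetherian k X
  have hsep : X.IsSeparated := Fga.HypSec.isSeparated k X
  obtain ⟨q, hq, hgg⟩ := exists_gg k hH hF
  have hA : CohB1.IsAmple (CohB1.tensorPow H q) := (S2327.result X H hH.1 q hq).mp hH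
  obtain ⟨m₁, φ, hm₁, hφ⟩ := hbig _ hA
  have hEff := (K931.Eff.exists_mono_iff hA.1 (isInvertible_tensorPow hL m₁)).mp ⟨φ, hφ⟩
  obtain ⟨M, hM, hcl, s, hs⟩ := hEff
  obtain ⟨D, hD, ⟨e⟩⟩ := exists_divisor hM s hs
  have hI : PicF.IsInvertible (ClSub.idealMod D) := Fga.IntAdd.isInvertible_of_tensor e
  have h1 : mc M * mc (ClSub.idealMod D) = 1 := by rw [← mc_tensor, mc_eq e, mc_one]
  have h2 : mc L ^ m₁ = mc M * mc H ^ q := by
    have h3 := div_eq_iff_eq_mul.mp hcl
    have h4 := congrArg (Pic13.H970.IntForm.toMC X) h3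
    rw [map_mul] at h4
    change mc _ = mc _ * mc _ at h4
    rwa [mc_tensorPow, mc_tensorPow] at h4
  refine ⟨D, m₁, hI, fun m hm => ?_⟩
  obtain ⟨t, rfl⟩ : ∃ t, m = t + m₁ := ⟨m - m₁, by omega⟩
  have hnt : K909.Kleiman.Nef k X (CohB1.tensorPow L t) := K909.Kleiman.Nef.tensorPow k X hL hnef t
  have h5 := hgg _ (isInvertible_tensorPow hL t) hnt
  obtain ⟨e'⟩ := (mc_eq_iff (CohB1.tensorMod (CohB1.tensorPow L t) (CohB1.tensorPow H q))
    (CohB1.tensorMod (CohB1.tensorPow L (t + m₁)) (ClSub.idealMod D))).mp (by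
      rw [mc_tensor, mc_tensor, mc_tensorPow, mc_tensorPow, mc_tensorPow, pow_add, h2, mul_assoc (mc L ^ t),
        mul_right_comm, h1, one_mul])
  exact isGloballyGenerated_of_iso e' h5

end K931.Wilson
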